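import Cfsg.Agent.Lib.Sporadic.J1.Spectrum
import Cfsg.Prelude.Def_Sporadic

/-!
The matrix group J1 is simple: every element of prime order has all of the group as normal closure.
-/

set_option autoImplicit false

namespace CfsgLib.J1

/-- a word for the inverse -/
def invW (g : List Bool) : List Bool :=
  g.reverse.flatMap fun b => List.replicate (bif b then 4 else 6) b

theorem el_invW {g : List Bool} (h : (word gX gY (g ++ invW g)).beq one = true) :
    el (invW g) = (el g)⁻¹ := by
  have h1 : el (g ++ invW g) = el [] := (el_eq_iff _ _).2 (by simpa [word] using h)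
  rw [el_append] at h1
  exact eq_inv_of_mul_eq_one_right h1

/-- check that a product of two conjugates has order 19 -/
def check19 (z g : List Bool) : Bool :=
  let c := z ++ g ++ z ++ invW g
  (word gX gY (g ++ invW g)).beq one && (word gX gY (List.replicate 19 c).flatten).beq one &&
    !(word gX gY c).beq one

/-- seeds: representatives of the elements of small prime order, each with a conjugating word -/
def seeds : List (List Bool × List Bool) :=
  [(e8 1, [true]), (e8 2, [false, true]), (e8 3, [true]), (e8 4, [true]), (e8 5, [false, false, true]),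
    (e8 6, [false, true]), (e8 7, [true, false]),
    ((List.replicate 5 w15).flatten, [false, false, false]), ((List.replicate 3 w15).flatten, [false]),
    (w7, [true, true]), (w11, [false])]

theorem seeds_check : seeds.all (fun zg => check19 zg.1 zg.2) = true := by decide +kernel

variable {N : Subgroup Cfsg.Spor.J1}

theorem exists_nineteen_of_seed (hN : N.Normal) {z g : List Bool} (h : (z, g) ∈ seeds) (hz : el z ∈ N) :
    ∃ u ∈ N, orderOf u = 19 := by
  haveI := Fact.mk (show Nat.Prime 19 by norm_num)
  have hc := List.all_eq_true.1 seeds_check _ h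
  simp only [check19, Bool.and_eq_true, Bool.not_eq_true'] at hc
  obtain ⟨⟨h1, h2⟩, h3⟩ := hc
  refine ⟨el (z ++ g ++ z ++ invW g), ?_, orderOf_eq_prime ((el_pow_eq_one_iff _ _).2 h2) ?_⟩
  · rw [el_append, el_append, el_append, el_invW h1, mul_assoc (el z), mul_assoc (el z)]
    exact N.mul_mem hz (hN.conj_mem _ hz _)
  · intro he
    rw [show (1 : Cfsg.Spor.J1) = el [] from rfl, el_eq_iff] at he
    simp only [word] at he
    rw [h3] at he
    exact absurd he (by decide)

/-- a normal subgroup meeting the class of a generator of a Sylow subgroup of prime order contains it -/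
theorem mem_of_orderOf_eq (hN : N.Normal) (p : ℕ) [Fact p.Prime] (hndvd : ¬ p ^ 2 ∣ 175560)
    {y u : Cfsg.Spor.J1} (hy : orderOf y = p) (hu : orderOf u = p) (huN : u ∈ N) : y ∈ N := by
  obtain ⟨c, -, hc⟩ := exists_conj_commute p (ndvd hndvd) hy (g := u) (by rw [hu])
  rw [hu, Nat.div_self (Fact.out : p.Prime).pos, pow_one] at hc
  exact Subgroup.zpowers_le.2 (hN.conj_mem _ huN c) hc

theorem conj_products :
    (word gX gY ([true, false, false, true] ++ w19 ++ invW [true, false, false, true] ++
      [false, false, false, true, false, false, true] ++ w19 ++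
      invW [false, false, false, true, false, false, true])).beq (word gX gY [false]) = true ∧
    (word gX gY ([false, false, true] ++ (w19 ++ w19) ++ invW [false, false, true] ++
      [false, true, false, false, false, true, true, false] ++ w19 ++
      invW [false, true, false, false, false, true, true, false])).beq (word gX gY [true]) = true ∧
    (word gX gY ([true, false, false, true] ++ invW [true, false, false, true])).beq one = true ∧
    (word gX gY ([false, false, false, true, false, false, true] ++
      invW [false, false, false, true, false, false, true])).beq one = true ∧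
    (word gX gY ([false, false, true] ++ invW [false, false, true])).beq one = true ∧
    (word gX gY ([false, true, false, false, false, true, true, false] ++
      invW [false, true, false, false, false, true, true, false])).beq one = true := by
  decide +kernel

theorem eq_top_of_nineteen (hN : N.Normal) (h : el w19 ∈ N) : N = ⊤ := by
  obtain ⟨hx, hy, i1, i2, i3, i4⟩ := conj_products
  have X : el [false] ∈ N := by
    rw [← (el_eq_iff _ _).2 hx, el_append, el_append, el_append, el_append, el_append,
      el_invW i1, el_invW i2, mul_assoc _ (el [false, false, false, true, false, false, true]),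
      mul_assoc _ (el [false, false, false, true, false, false, true] * el w19)]
    exact N.mul_mem (hN.conj_mem _ h _) (hN.conj_mem _ h _)
  have Y : el [true] ∈ N := by
    rw [← (el_eq_iff _ _).2 hy, el_append, el_append, el_append, el_append, el_append,
      el_invW i3, el_invW i4, mul_assoc _ (el [false, true, false, false, false, true, true, false]),
      mul_assoc _ (el [false, true, false, false, false, true, true, false] * el w19)]
    exact N.mul_mem (hN.conj_mem _ (by rw [el_append]; exact N.mul_mem h h) _) (hN.conj_mem _ h _)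
  refine eq_top_iff.2 fun g _ => ?_
  have hle : Cfsg.Spor.J1 ≤ N.map (Cfsg.Spor.J1).subtype := by
    conv_lhs => rw [Cfsg.Spor.J1]
    rw [Subgroup.closure_le]
    rintro a (rfl | rfl)
    · exact ⟨el [false], X, by simp [el]⟩
    · exact ⟨el [true], Y, by simp [el]⟩
  obtain ⟨a, ha, hag⟩ := hle g.2
  exact (Subtype.ext hag : a = g) ▸ ha

theorem isSimpleGroup : IsSimpleGroup Cfsg.Spor.J1 := by
  haveI : Nontrivial Cfsg.Spor.J1 := Finite.one_lt_card_iff_nontrivial.1 (by rw [card_J1]; norm_num)
  haveI h2 := Fact.mk Nat.prime_two
  haveI h3 := Fact.mk Nat.prime_three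
  haveI h5 := Fact.mk Nat.prime_five
  haveI h7 := Fact.mk (show Nat.Prime 7 by norm_num)
  haveI h11 := Fact.mk (show Nat.Prime 11 by norm_num)
  haveI h19 := Fact.mk (show Nat.Prime 19 by norm_num)
  refine ⟨fun N hN => or_iff_not_imp_left.2 fun hne => ?_⟩
  suffices h : ∃ u ∈ N, orderOf u = 19 by
    obtain ⟨u, hu, huo⟩ := h
    exact eq_top_of_nineteen hN (mem_of_orderOf_eq hN 19 (by norm_num) orderOf_w19 huo hu)
  obtain ⟨v, hv, hv1⟩ := (Subgroup.ne_bot_iff_exists_ne_one.1 hne).elim fun v hv =>
    (⟨v.1, v.2, fun h => hv (Subtype.ext h)⟩ : ∃ v, v ∈ N ∧ v ≠ 1)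
  obtain ⟨p, hp, hpd⟩ := Nat.exists_prime_and_dvd (mt orderOf_eq_one_iff.1 hv1)
  set u := v ^ (orderOf v / p)
  have huN : u ∈ N := N.pow_mem hv _
  have huo : orderOf u = p := orderOf_pow_orderOf_div (orderOf_pos v).ne' hpd
  have hpcases : p ∈ [2, 3, 5, 7, 11, 19] := by
    have h := orderOf_mem u
    rw [huo] at h
    simp only [orders, List.mem_cons, List.not_mem_nil, or_false] at h ⊢
    rcases h with rfl | rfl | rfl | rfl | rfl | rfl | rfl | rfl | rfl | rfl <;> revert hp <;> norm_num
  simp only [List.mem_cons, List.not_mem_nil, or_false] at hpcases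
  rcases hpcases with rfl | rfl | rfl | rfl | rfl | rfl
  · obtain ⟨c, hc⟩ := exists_conj_mem 2 3 (ndvd (by norm_num)) (E := E8) (by rw [card_E8]; rfl) (k := 1)
      (by rw [huo, pow_one])
    obtain ⟨i, hi⟩ := hc
    have hiN : el (e8 i) ∈ N := (show el (e8 i) = _ from hi) ▸ hN.conj_mem _ huN c
    have hi0 : i ≠ 0 := by
      rintro rfl
      have : orderOf (MulAut.conj c u) = 1 := by rw [← hi]; exact orderOf_eq_one_iff.2 rfl
      rw [MulEquiv.orderOf_eq, huo] at this
      norm_num at this
    obtain ⟨g, hg⟩ : ∃ g, (e8 i, g) ∈ seeds := by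
      fin_cases i
      · exact absurd rfl hi0
      · exact ⟨_, .head _⟩
      · exact ⟨_, .tail _ <| .head _⟩
      · exact ⟨_, .tail _ <| .tail _ <| .head _⟩
      · exact ⟨_, .tail _ <| .tail _ <| .tail _ <| .head _⟩
      · exact ⟨_, .tail _ <| .tail _ <| .tail _ <| .tail _ <| .head _⟩
      · exact ⟨_, .tail _ <| .tail _ <| .tail _ <| .tail _ <| .tail _ <| .head _⟩
      · exact ⟨_, .tail _ <| .tail _ <| .tail _ <| .tail _ <| .tail _ <| .tail _ <| .head _⟩
    exact exists_nineteen_of_seed hN hg hiN
  · refine exists_nineteen_of_seed hN (z := (List.replicate 5 w15).flatten) (g := [false, false, false])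
      (by simp [seeds]) (mem_of_orderOf_eq hN 3 (by norm_num) ?_ huo huN)
    rw [el_rep, orderOf_pow' _ (by norm_num), orderOf_w15]; rfl
  · refine exists_nineteen_of_seed hN (z := (List.replicate 3 w15).flatten) (g := [false])
      (by simp [seeds]) (mem_of_orderOf_eq hN 5 (by norm_num) ?_ huo huN)
    rw [el_rep, orderOf_pow' _ (by norm_num), orderOf_w15]; rfl
  · exact exists_nineteen_of_seed hN (z := w7) (g := [true, true]) (by simp [seeds])
      (mem_of_orderOf_eq hN 7 (by norm_num) orderOf_w7 huo huN)
  · exact exists_nineteen_of_seed hN (z := w11) (g := [false]) (by simp [seeds])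
      (mem_of_orderOf_eq hN 11 (by norm_num) orderOf_w11 huo huN)
  · exact ⟨u, huN, huo⟩

theorem isJ1 : Cfsg.IsJ1 Cfsg.Spor.J1 := ⟨isSimpleGroup, card_J1⟩

end CfsgLib.J1
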