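import Cfsg.Agent.Lib.Sporadic.J1.Spectrum
import Cfsg.Agent.Lib.Present.BinIcosahedral

/-!
The centraliser of an involution of J1 is the product of a group of order two and the alternating
group of degree five.
-/

set_option autoImplicit false

namespace CfsgLib.J1

open scoped commutatorElement

/-- word of an involution -/
def wt2 : List Bool := (List.replicate 5 [false, true]).flatten
/-- word of an element of order three commuting with it -/
def wc3 : List Bool :=
  [true, true, false, true, true, true, false, false, true, true, true, false, true, true, true]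
/-- word of an element of order five commuting with it -/
def wc5 : List Bool := [false, true, false, true, false, true, false, true]

theorem wt2_order : orderOf (el wt2) = 2 :=
  orderOf_el _ _ (by norm_num) (by decide +kernel) (by decide +kernel)

theorem wc3_order : orderOf (el wc3) = 3 :=
  orderOf_el _ _ (by norm_num) (by decide +kernel) (by decide +kernel)

theorem wc5_order : orderOf (el wc5) = 5 :=
  orderOf_el _ _ (by norm_num) (by decide +kernel) (by decide +kernel)

theorem wc35_order : orderOf (el (wc3 ++ wc5)) = 2 :=
  orderOf_el _ _ (by norm_num) (by decide +kernel) (by decide +kernel)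

theorem wt2_comm : Commute (el wt2) (el wc3) ∧ Commute (el wt2) (el wc5) := by
  constructor <;>
  · show el _ * el _ = el _ * el _
    rw [← el_append, ← el_append, el_eq_iff]
    decide +kernel

/-- elements commuting with an involution have order prime to 7, 11 and 19 -/
theorem card_centralizer_involution_dvd :
    Nat.card (Subgroup.centralizer ({el wt2} : Set Cfsg.Spor.J1)) ∣ 120 := by
  set C := Subgroup.centralizer ({el wt2} : Set Cfsg.Spor.J1)
  have hno : ∀ p ∈ [7, 11, 19], ¬ p ∣ Nat.card C := by
    intro p hp hd
    have hpp : p.Prime := by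
      simp only [List.mem_cons, List.not_mem_nil, or_false] at hp
      rcases hp with rfl | rfl | rfl <;> norm_num
    have := Fact.mk hpp
    obtain ⟨z, hz⟩ := exists_prime_orderOf_dvd_card' p hd
    rw [← Subgroup.orderOf_coe] at hz
    have hc : Commute (el wt2) (z : Cfsg.Spor.J1) :=
      (Subgroup.mem_centralizer_singleton_iff.1 z.2).symm
    have hcop : (orderOf (el wt2)).Coprime (orderOf (z : Cfsg.Spor.J1)) := by
      rw [wt2_order, hz]
      simp only [List.mem_cons, List.not_mem_nil, or_false] at hp
      rcases hp with rfl | rfl | rfl <;> norm_num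
    have h := hc.orderOf_mul_eq_mul_orderOf_of_coprime hcop
    rw [wt2_order, hz] at h
    have := orderOf_mem (el wt2 * (z : Cfsg.Spor.J1))
    rw [h] at this
    simp only [orders, List.mem_cons, List.not_mem_nil, or_false] at hp this
    omega
  have hd : Nat.card C ∣ 120 * (7 * 11 * 19) := by
    have := Subgroup.card_subgroup_dvd_card C
    rw [card_J1] at this
    simpa using this
  refine Nat.Coprime.dvd_of_dvd_mul_right ?_ hd
  simp only [Nat.coprime_mul_iff_right]
  exact ⟨⟨((show Nat.Prime 7 by norm_num).coprime_iff_not_dvd.2 (hno 7 (by simp))).symm,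
    ((show Nat.Prime 11 by norm_num).coprime_iff_not_dvd.2 (hno 11 (by simp))).symm⟩,
    ((show Nat.Prime 19 by norm_num).coprime_iff_not_dvd.2 (hno 19 (by simp))).symm⟩

/-- A centraliser of order dividing 120 containing an icosahedral pair is `2 × A₅`. -/
theorem centralizer_iso_of_pair {G : Type*} [Group G] [Finite G] (t x y : G) (ht : orderOf t = 2)
    (hox : orderOf x = 3) (hoy : orderOf y = 5) (hoxy : orderOf (x * y) = 2) (htx : Commute t x)
    (hty : Commute t y) (hdvd : Nat.card (Subgroup.centralizer ({t} : Set G)) ∣ 120) :
    Nonempty (↥(Subgroup.centralizer ({t} : Set G)) ≃*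
      Multiplicative (ZMod 2) × ↥(alternatingGroup (Fin 5))) := by
  classical
  set C := Subgroup.centralizer ({t} : Set G)
  have hx : x ∈ C := Subgroup.mem_centralizer_singleton_iff.2 htx.symm.eq
  have hy : y ∈ C := Subgroup.mem_centralizer_singleton_iff.2 hty.symm.eq
  set K := Subgroup.closure ({x, y} : Set G)
  have hKC : K ≤ C := (Subgroup.closure_le _).2 (Set.insert_subset hx (Set.singleton_subset_iff.2 hy))
  let a : K := ⟨x, Subgroup.subset_closure (Set.mem_insert _ _)⟩
  let b : K := ⟨y, Subgroup.subset_closure (Set.mem_insert_of_mem _ (Set.mem_singleton _))⟩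
  have ha : orderOf a = 3 := by rw [← Subgroup.orderOf_coe]; exact hox
  have hb : orderOf b = 5 := by rw [← Subgroup.orderOf_coe]; exact hoy
  have hab : orderOf (a * b) = 2 := by
    rw [← Subgroup.orderOf_coe, Subgroup.coe_mul]
    exact hoxy
  have hgen : Subgroup.closure ({a, b} : Set K) = ⊤ := by
    apply Subgroup.map_injective K.subtype_injective
    rw [MonoidHom.map_closure, Set.image_pair, ← MonoidHom.range_eq_map, Subgroup.range_subtype]
    rfl
  obtain ⟨-, hle⟩ := Present.icosahedral_card_le a b (ha ▸ pow_orderOf_eq_one a)
    (hb ▸ pow_orderOf_eq_one b) (hab ▸ pow_orderOf_eq_one (a * b)) hgen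
  have hns : ¬ Group.IsSolvable K := by
    intro hs
    have : Nontrivial K := ⟨a, 1, fun h => by rw [h, orderOf_one] at ha; omega⟩
    have hlt := Group.IsSolvable.commutator_lt_top_of_nontrivial K
    refine hlt.ne ?_
    let π := QuotientGroup.mk' (commutator K)
    have hcomm : π a * π b = π b * π a := by
      rw [← map_mul, ← map_mul, QuotientGroup.mk'_apply, QuotientGroup.mk'_apply, QuotientGroup.eq,
        _root_.commutator_def]
      have : (a * b)⁻¹ * (b * a) = ⁅b⁻¹, a⁻¹⁆ := by simp [commutatorElement_def, mul_assoc]
      rw [this]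
      exact Subgroup.commutator_mem_commutator (Subgroup.mem_top _) (Subgroup.mem_top _)
    have h3 : π a ^ 3 = 1 := by rw [← map_pow, ← ha, pow_orderOf_eq_one, map_one]
    have h5 : π b ^ 5 = 1 := by rw [← map_pow, ← hb, pow_orderOf_eq_one, map_one]
    have h2 : π a ^ 2 * π b ^ 2 = 1 := by
      rw [← (show Commute (π a) (π b) from hcomm).mul_pow, ← map_mul, ← map_pow, ← hab,
        pow_orderOf_eq_one, map_one]
    have hb1 : π b = 1 := by
      have e : π b ^ 2 = π a := by
        calc π b ^ 2 = π a ^ 3 * π b ^ 2 := by rw [h3, one_mul]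
          _ = π a * (π a ^ 2 * π b ^ 2) := by rw [← mul_assoc, ← pow_succ']
          _ = π a := by rw [h2, mul_one]
      have : π b ^ 6 = 1 := by rw [show 6 = 2 * 3 from rfl, pow_mul, e, h3]
      calc π b = π b ^ 5 * π b := by rw [h5, one_mul]
        _ = 1 := by rw [← pow_succ, this]
    have ha1 : π a = 1 := by
      rw [hb1, one_pow, mul_one] at h2
      calc π a = π a ^ 2 * π a := by rw [h2, one_mul]
        _ = 1 := by rw [← pow_succ, h3]
    rw [eq_top_iff, ← hgen, Subgroup.closure_le]
    rintro z (rfl | rfl)
    exacts [(QuotientGroup.eq_one_iff _).1 ha1, (QuotientGroup.eq_one_iff _).1 hb1]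
  have h30 : 30 ∣ Nat.card K := by
    have h2 := orderOf_dvd_natCard (a * b); rw [hab] at h2
    have h3 := orderOf_dvd_natCard a; rw [ha] at h3
    have h5 := orderOf_dvd_natCard b; rw [hb] at h5
    omega
  have h60 : Nat.card K = 60 := by
    by_contra hne
    obtain ⟨k, hk⟩ := h30
    have hpos : 0 < Nat.card K := Nat.card_pos
    have hk2 : k ≤ 2 := by omega
    have : Nat.card K ∣ 60 := by
      interval_cases k
      · omega
      · rw [hk]; norm_num
      · rw [hk]
    exact hns (Present.isSolvable_of_card_dvd_sixty this hne)
  obtain ⟨eA⟩ := Present.nonsolvable_sixty h60 hns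
  -- the product map
  have hT : Subgroup.zpowers t ≤ C :=
    Subgroup.zpowers_le.2 (Subgroup.mem_centralizer_singleton_iff.2 rfl)
  let f : Subgroup.zpowers t × K →* C :=
    MonoidHom.noncommCoprod (Subgroup.inclusion hT) (Subgroup.inclusion hKC) fun m n => by
      obtain ⟨i, hi⟩ := m.2
      apply Subtype.ext
      show (m : G) * n = n * m
      rw [← hi]
      exact (((show Commute t (n : G) from
        (Subgroup.mem_centralizer_singleton_iff.1 (hKC n.2)).symm)).zpow_left i).eq
  have hsimple : IsSimpleGroup (alternatingGroup (Fin 5)) := alternatingGroup.isSimpleGroup (by simp)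
  have hf : Function.Injective f := by
    rw [injective_iff_map_eq_one]
    rintro ⟨m, n⟩ h
    have hmn : (m : G) * n = 1 := congrArg Subtype.val h
    have hn : (n : G) = (m : G)⁻¹ := eq_inv_of_mul_eq_one_right hmn
    have hz : n ∈ Subgroup.center K := by
      rw [Subgroup.mem_center_iff]
      intro g
      apply Subtype.ext
      obtain ⟨i, hi⟩ := m.2
      show (g : G) * n = n * g
      rw [hn, ← hi]
      exact ((((show Commute t (g : G) from
        (Subgroup.mem_centralizer_singleton_iff.1 (hKC g.2)).symm)).zpow_left i).inv_left).eq.symm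
    have hbot : Subgroup.center (alternatingGroup (Fin 5)) = ⊥ :=
      (inferInstance : (Subgroup.center (alternatingGroup (Fin 5))).Normal).eq_bot_or_eq_top |>.resolve_right
        fun htop => by
          have h1 : Subgroup.center K = ⊤ := by
            rw [eq_top_iff]
            intro z _
            rw [Subgroup.mem_center_iff]
            intro g
            apply eA.injective
            rw [map_mul, map_mul]
            exact Subgroup.mem_center_iff.1 (htop ▸ Subgroup.mem_top (eA z)) (eA g)
          exact hns (Group.isSolvable_of_comm fun p q =>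
            Subgroup.mem_center_iff.1 (h1 ▸ Subgroup.mem_top q) p)
    have hn1 : n = 1 := by
      have : eA n ∈ Subgroup.center (alternatingGroup (Fin 5)) := by
        rw [Subgroup.mem_center_iff]
        intro g
        obtain ⟨g, rfl⟩ := eA.surjective g
        rw [← map_mul, ← map_mul, Subgroup.mem_center_iff.1 hz g]
      rw [hbot, Subgroup.mem_bot, map_eq_one_iff _ eA.injective] at this
      exact this
    subst hn1
    rw [Subgroup.coe_one, mul_one] at hmn
    exact Prod.ext (Subtype.ext hmn) rfl
  have hcard : Nat.card C = 120 := by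
    refine Nat.le_antisymm (Nat.le_of_dvd (by norm_num) hdvd) ?_
    have := Nat.card_le_card_of_injective f hf
    rwa [Nat.card_prod, Nat.card_zpowers, ht, h60] at this
  have hbij : Function.Bijective f := by
    refine (Nat.bijective_iff_injective_and_card f).2 ⟨hf, ?_⟩
    rw [Nat.card_prod, Nat.card_zpowers, ht, h60, hcard]
  have : IsCyclic (Subgroup.zpowers t) := inferInstance
  exact ⟨(MulEquiv.ofBijective f hbij).symm.trans (MulEquiv.prodCongr
    (mulEquivOfCyclicCardEq (by rw [Nat.card_zpowers, ht,
      Nat.card_congr Multiplicative.toAdd, Nat.card_zmod])) eA)⟩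

theorem involution_centralizer :
    ∃ t : ↥Cfsg.Spor.J1, orderOf t = 2 ∧
      Nonempty (↥(Subgroup.centralizer ({t} : Set ↥Cfsg.Spor.J1)) ≃*
        Multiplicative (ZMod 2) × ↥(alternatingGroup (Fin 5))) :=
  ⟨el wt2, wt2_order, centralizer_iso_of_pair _ _ _ wt2_order wc3_order wc5_order
    (el_append wc3 wc5 ▸ wc35_order) wt2_comm.1 wt2_comm.2 card_centralizer_involution_dvd⟩

end CfsgLib.J1
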