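import Cfsg.Agent.Lib.Sporadic.J1.Simple
import Cfsg.Agent.Lib.Sporadic.J1.DataAut
import Cfsg.Prelude.Def_KGroupFacts

/-!
Every automorphism of J1 is inner: it is determined by the images of an element of order 19 and of
an involution, and two relations leave one orbit of candidate pairs.
-/

set_option autoImplicit false
set_option maxRecDepth 20000

namespace CfsgLib.J1

open M7

/-- tabulated involution -/
def IV (i : ℕ) : M7 := get2 one invData i

/-- tabulated power of the element of order 19 -/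
def PA (e : ℕ) : M7 := get2 one powData e

/-- tabulated representative -/
def IR (r : ℕ) : M7 := IV (get2 0 invOrb r)

/-- validity -/
noncomputable def checkAutOk : Bool := allLt 1463 (fun i => okb (IV i)) && allLt 19 (fun e => okb (PA e))

/-- closure and orbit decomposition -/
def checkInv (i : ℕ) : Bool :=
  match get2 (0, 0) invEdge i, get2 (0, 0) invRep i with
  | (j, j'), (r, e) =>
    Nat.blt j 1463 && Nat.blt j' 1463 && Nat.blt r 77 && Nat.blt e 19 && Nat.blt (get2 0 invOrb r) 1463 &&
      (mul gX (IV i)).beq (mul (IV j) gX) && (mul gY (IV i)).beq (mul (IV j') gY) &&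
      (mul (IV i) (PA e)).beq (mul (PA e) (IR r))

/-- powers -/
def checkPow (e : ℕ) : Bool := (mul (PA e) (word gX gY w19)).beq (PA (e + 1))

/-- the two relations -/
def relsHold (A T : M7) : Bool :=
  let u := mul (mul (mul (mul A T) A) A) T
  let v := mul (mul (mul (mul A A) A) A) T
  (mul (mul (mul (mul u u) u) u) u).beq one && (mul (mul (mul (mul (mul (mul v v) v) v) v) v) v).beq one

/-- only one candidate pair satisfies the relations -/
def checkCand (r : ℕ) : Bool :=
  ((Nat.beq r 0) || !(relsHold (PA 1) (IR r))) && !(relsHold (PA 2) (IR r)) && !(relsHold (PA 4) (IR r))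

theorem checkAutOk_true : checkAutOk = true := by decide +kernel
theorem checkInv_true : allLt 1463 checkInv = true := by decide +kernel
theorem checkPow_true : allLt 18 checkPow = true := by decide +kernel
theorem checkCand_true : allLt 77 checkCand = true := by decide +kernel
theorem PA_zero : (PA 0).beq one = true := by decide +kernel
theorem IR_zero : (IR 0).beq (word gX gY (List.replicate 5 [false, true]).flatten) = true := by decide +kernel

theorem ok_IV {i : ℕ} (h : i < 1463) : Ok (IV i) := by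
  have := checkAutOk_true
  rw [checkAutOk, Bool.and_eq_true] at this
  exact allLt_spec this.1 i h

theorem ok_PA {e : ℕ} (h : e < 19) : Ok (PA e) := by
  have := checkAutOk_true
  rw [checkAutOk, Bool.and_eq_true] at this
  exact allLt_spec this.2 e h

/-- the involution used as second generator -/
abbrev autT : List Bool := (List.replicate 5 [false, true]).flatten

/-- substitute the two new generators into a word -/
def subW (s : List Bool) : List Bool := s.flatMap fun b => bif b then autT else w19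

theorem mat_mul (g h : Cfsg.Spor.J1) : mat (g * h) = mat g * mat h := rfl

theorem mat_pow_a : ∀ e, e < 19 → mat (el w19 ^ e) = toM (PA e) := by
  intro e
  induction e with
  | zero => intro _; rw [beq_eq PA_zero, toM_one, pow_zero]; rfl
  | succ e ih =>
    intro he
    rw [pow_succ, mat_mul, ih (by omega), mat_el, ← toM_mul (ok_PA (by omega)) (ok_word _ _ _),
      beq_eq (allLt_spec checkPow_true e (by omega))]

/-- tabulated elements -/
def InTab (g : Cfsg.Spor.J1) : Prop := ∃ i < 1463, mat g = toM (IV i)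

theorem checkInv_spec {i : ℕ} (hi : i < 1463) :
    ∃ j < 1463, ∃ j' < 1463, ∃ r < 77, ∃ e < 19, get2 0 invOrb r < 1463 ∧
      toM gX * toM (IV i) = toM (IV j) * toM gX ∧ toM gY * toM (IV i) = toM (IV j') * toM gY ∧
      toM (IV i) * toM (PA e) = toM (PA e) * toM (IR r) := by
  have h := allLt_spec checkInv_true i hi
  unfold checkInv at h
  generalize get2 (0, 0) invEdge i = E at h
  generalize get2 (0, 0) invRep i = R at h
  obtain ⟨j, j'⟩ := E
  obtain ⟨r, e⟩ := R
  simp only [Bool.and_eq_true, Nat.blt_eq] at h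
  obtain ⟨⟨⟨⟨⟨⟨⟨hj, hj'⟩, hr⟩, he⟩, hor⟩, e1⟩, e2⟩, e3⟩ := h
  refine ⟨j, hj, j', hj', r, hr, e, he, hor, ?_, ?_, ?_⟩
  · rw [← toM_mul ok_gX (ok_IV hi), ← toM_mul (ok_IV hj) ok_gX, beq_eq e1]
  · rw [← toM_mul ok_gY (ok_IV hi), ← toM_mul (ok_IV hj') ok_gY, beq_eq e2]
  · exact ((toM_mul (ok_IV hi) (ok_PA he)).symm.trans (congrArg toM (beq_eq e3))).trans
      (toM_mul (ok_PA he) (ok_IV (i := get2 0 invOrb r) hor))

theorem inTab_conj (c : Cfsg.Spor.J1) : ∀ x, InTab x → InTab (c * x * c⁻¹) := by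
  obtain ⟨c, hc⟩ := c
  induction hc using Subgroup.closure_induction with
  | mem g hg =>
    rintro x ⟨i, hi, hx⟩
    obtain ⟨j, hj, j', hj', -, -, -, -, -, hX, hY, -⟩ := checkInv_spec hi
    rcases hg with rfl | rfl
    · refine ⟨j, hj, ?_⟩
      show Cfsg.Spor.jankoX.val * mat x * Cfsg.Spor.jankoX⁻¹.val = _
      rw [hx, show Cfsg.Spor.jankoX.val = toM gX from toM_gX.symm, hX, toM_gX, Matrix.mul_assoc]
      exact (congrArg (toM (IV j) * ·) (Units.mul_inv Cfsg.Spor.jankoX)).trans (Matrix.mul_one _)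
    · refine ⟨j', hj', ?_⟩
      show Cfsg.Spor.jankoY.val * mat x * Cfsg.Spor.jankoY⁻¹.val = _
      rw [hx, show Cfsg.Spor.jankoY.val = toM gY from toM_gY.symm, hY, toM_gY, Matrix.mul_assoc]
      exact (congrArg (toM (IV j') * ·) (Units.mul_inv Cfsg.Spor.jankoY)).trans (Matrix.mul_one _)
  | one =>
    intro x hx
    show InTab ((1 : Cfsg.Spor.J1) * x * (1 : Cfsg.Spor.J1)⁻¹)
    simpa using hx
  | mul g h hg hh ihg ihh =>
    intro x hx
    have := ihg _ (ihh x hx)
    convert this using 1
    exact Subtype.ext (by push_cast; group)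
  | inv g hg ih =>
    intro x hx
    set d : Cfsg.Spor.J1 := ⟨g, hg⟩
    have hn : ∀ k : ℕ, InTab (d ^ k * x * (d ^ k)⁻¹) := by
      intro k
      induction k with
      | zero => simpa using hx
      | succ k ihk =>
        rw [show d ^ (k + 1) * x * (d ^ (k + 1))⁻¹ = d * (d ^ k * x * (d ^ k)⁻¹) * d⁻¹ by group]
        exact ih _ ihk
    have h1 : (⟨g⁻¹, inv_mem hg⟩ : Cfsg.Spor.J1) = d ^ (orderOf d - 1) := by
      refine inv_eq_of_mul_eq_one_right (a := d) ?_
      rw [← pow_succ', Nat.sub_one_add_one (orderOf_pos d).ne', pow_orderOf_eq_one]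
    rw [h1]; exact hn _

theorem e8_inTab : ∀ j : Fin 8, j ≠ 0 →
    (invE8.getD j.val 0).blt 1463 = true ∧ (word gX gY (e8 j)).beq (IV (invE8.getD j.val 0)) = true := by
  decide +kernel

theorem inTab_of_involution {g : Cfsg.Spor.J1} (hg : orderOf g = 2) : InTab g := by
  haveI := Fact.mk Nat.prime_two
  obtain ⟨c, hc⟩ := exists_conj_mem 2 3 (ndvd (m := 2 ^ (3 + 1)) (by norm_num))
    (card_E8.trans (by norm_num)) (x := g) (k := 1) (by rw [hg, pow_one])
  obtain ⟨j, hj⟩ := hc
  have hj0 : j ≠ 0 := by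
    rintro rfl
    have h1 : MulAut.conj c g = 1 := hj.symm.trans (by simp [e8, el])
    rw [MulEquiv.map_eq_one_iff] at h1
    rw [h1, orderOf_one] at hg
    norm_num at hg
  have h := e8_inTab j hj0
  rw [Nat.blt_eq] at h
  have := inTab_conj c⁻¹ (el (e8 j)) ⟨_, h.1, by rw [mat_el, beq_eq h.2]⟩
  rw [show c⁻¹ * el (e8 j) * c⁻¹⁻¹ = g by
    rw [show el (e8 j) = c * g * c⁻¹ from hj]; group] at this
  exact this

theorem gen_words : (word gX gY (subW autWordX)).beq gX = true ∧ (word gX gY (subW autWordY)).beq gY = true ∧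
    (word gX gY (subW autWordN ++ w19)).beq
      (word gX gY ((List.replicate 8 w19).flatten ++ subW autWordN)) = true ∧
    relsHold (word gX gY w19) (word gX gY autT) = true := by
  decide +kernel

theorem residues : ∀ i : Fin 19, i.val ≠ 0 → ∃ k : Fin 19, (k.val = 1 ∨ k.val = 2 ∨ k.val = 4) ∧
    ∃ e : Fin 6, i.val = k.val * 8 ^ e.val % 19 := by decide +kernel

theorem map_el_sub {β : MulAut Cfsg.Spor.J1} (hA : β (el w19) = el w19) (hT : β (el autT) = el autT) :
    ∀ s : List Bool, β (el (subW s)) = el (subW s) := by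
  intro s
  induction s with
  | nil => simp [subW, el]
  | cons b s ih =>
    rw [show subW (b :: s) = (bif b then autT else w19) ++ subW s from by simp [subW], el_append, map_mul, ih]
    cases b <;> simp [hA, hT]

theorem rels_map (β : MulAut Cfsg.Spor.J1) {A T : M7} (hA : mat (β (el w19)) = toM A)
    (hT : mat (β (el autT)) = toM T) (hAo : Ok A) (hTo : Ok T) : relsHold A T = true := by
  have h0 := gen_words.2.2.2
  simp only [relsHold, Bool.and_eq_true] at h0 ⊢
  set a := el w19
  set t := el autT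
  have ha : mat a = toM (word gX gY w19) := mat_el _
  have ht : mat t = toM (word gX gY autT) := mat_el _
  have aw := ok_word gX gY w19
  have tw := ok_word gX gY autT
  have key : ∀ (A' T' : M7) (γ : Cfsg.Spor.J1 →* Cfsg.Spor.J1), Ok A' → Ok T' → mat (γ a) = toM A' →
      mat (γ t) = toM T' →
      (toM (mul (mul (mul (mul (mul (mul (mul (mul A' T') A') A') T') (mul (mul (mul (mul A' T') A') A') T'))
        (mul (mul (mul (mul A' T') A') A') T')) (mul (mul (mul (mul A' T') A') A') T'))
        (mul (mul (mul (mul A' T') A') A') T')) = mat (γ ((a * t * a * a * t) ^ 5))) ∧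
      (toM (mul (mul (mul (mul (mul (mul (mul (mul (mul (mul A' A') A') A') T') (mul (mul (mul (mul A' A') A') A') T'))
        (mul (mul (mul (mul A' A') A') A') T')) (mul (mul (mul (mul A' A') A') A') T'))
        (mul (mul (mul (mul A' A') A') A') T')) (mul (mul (mul (mul A' A') A') A') T'))
        (mul (mul (mul (mul A' A') A') A') T')) = mat (γ ((a * a * a * a * t) ^ 7))) := by
    intro A' T' γ ho1 ho2 e1 e2
    constructor <;>
    · simp only [pow_succ, pow_zero, one_mul, map_mul, mat_mul, e1, e2]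
      simp only [toM_mul, Ok.mul, ho1, ho2, mul_assoc]
  obtain ⟨k1, k2⟩ := key _ _ (MonoidHom.id _) aw tw ha ht
  rw [beq_eq h0.1, toM_one] at k1
  rw [beq_eq h0.2, toM_one] at k2
  have i1 : (a * t * a * a * t) ^ 5 = 1 := mat_injective k1.symm
  have i2 : (a * a * a * a * t) ^ 7 = 1 := mat_injective k2.symm
  obtain ⟨l1, l2⟩ := key A T β.toMonoidHom hAo hTo hA hT
  rw [i1, map_one] at l1
  rw [i2, map_one] at l2
  constructor
  · rw [toM_inj (Ok.mul _ _) ok_one (l1.trans toM_one.symm)]; exact beq_self _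
  · rw [toM_inj (Ok.mul _ _) ok_one (l2.trans toM_one.symm)]; exact beq_self _

set_option maxHeartbeats 1000000 in
theorem aut_inner (α : MulAut Cfsg.Spor.J1) : α ∈ Cfsg.Inn Cfsg.Spor.J1 := by
  haveI : Fact (Nat.Prime 19) := ⟨by norm_num⟩
  obtain ⟨a, hadef⟩ : ∃ a, a = el w19 := ⟨_, rfl⟩
  obtain ⟨t, htdef⟩ : ∃ t, t = el autT := ⟨_, rfl⟩
  have ha : orderOf a = 19 := hadef ▸ orderOf_w19
  obtain ⟨c, -, hc⟩ := exists_conj_commute 19 (ndvd (m := 19 ^ 2) (by norm_num))
    (y := α a) (g := a) ((MulEquiv.orderOf_eq α a).trans ha) (by rw [ha])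
  rw [ha, Nat.div_self (by norm_num), pow_one] at hc
  obtain ⟨i, hi⟩ := (Subgroup.mem_zpowers_iff.1 hc)
  obtain ⟨i', hi'⟩ : ∃ i' : Fin 19, α a = MulAut.conj c (a ^ i'.val) := by
    refine ⟨⟨(i % 19).toNat, by omega⟩, ?_⟩
    rw [← hi, ← map_zpow, ← zpow_natCast, Int.toNat_of_nonneg (Int.emod_nonneg _ (by norm_num))]
    refine congrArg (MulAut.conj c) ?_
    rw [← zpow_mod_orderOf, ha, Nat.cast_ofNat]
  have hi0 : i'.val ≠ 0 := by
    intro h
    rw [h, pow_zero, map_one, MulEquiv.map_eq_one_iff] at hi'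
    rw [hi', orderOf_one] at ha
    norm_num at ha
  obtain ⟨k, hk, e, he⟩ := residues i' hi0
  obtain ⟨n, hn⟩ : ∃ n, n = el (subW autWordN) := ⟨_, rfl⟩
  have hna : n * a * n⁻¹ = a ^ 8 := by
    rw [mul_inv_eq_iff_eq_mul, hadef, hn, ← el_rep, ← el_append, ← el_append]
    exact (el_eq_iff _ _).2 gen_words.2.2.1
  have hne : ∀ j : ℕ, ∀ m : ℕ, n ^ j * a ^ m * (n ^ j)⁻¹ = a ^ (m * 8 ^ j) := by
    intro j
    induction j with
    | zero => intro m; simp
    | succ j ih =>
      intro m
      rw [pow_succ', show n * n ^ j * a ^ m * (n * n ^ j)⁻¹ = n * (n ^ j * a ^ m * (n ^ j)⁻¹) * n⁻¹ by group,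
        ih, ← conj_pow, hna, ← pow_mul]
      congr 1
      ring
  set d := c * n ^ e.val with hd
  have hda : α a = MulAut.conj d (a ^ k.val) := by
    rw [hi', hd, map_mul, MulAut.mul_apply]
    refine congrArg (MulAut.conj c) ?_
    rw [MulAut.conj_apply, hne, he]
    conv_rhs => rw [← pow_mod_orderOf, ha]
  set β := (MulAut.conj d)⁻¹ * α with hβ
  have hβa : β a = a ^ k.val := by
    rw [hβ, MulAut.mul_apply, hda, MulAut.inv_apply_self]
  obtain ⟨j, hj, hjt⟩ := inTab_of_involution (g := β t) (by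
    rw [MulEquiv.orderOf_eq]
    rw [htdef]; exact orderOf_el _ _ (by norm_num) (by decide +kernel) (by decide +kernel))
  obtain ⟨-, -, -, -, r, hr, f, hf, hor, -, -, hconj⟩ := checkInv_spec hj
  set γ := (MulAut.conj (a ^ f))⁻¹ * β with hγ
  have hγa : γ a = a ^ k.val := by
    rw [hγ, MulAut.mul_apply, hβa, MulAut.conj_inv_apply]
    group
  have hγt : mat (γ t) = toM (IR r) := by
    have h1 : β t * a ^ f = a ^ f * γ t := by
      show β t * a ^ f = a ^ f * ((MulAut.conj (a ^ f))⁻¹ (β t))
      rw [MulAut.conj_inv_apply]; group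
    have h2 := congrArg mat h1
    rw [mat_mul, mat_mul, hjt, hadef, mat_pow_a f hf, hconj] at h2
    have h3 := congrArg (mat (a ^ f)⁻¹ * ·) h2
    simp only [← mul_assoc] at h3
    rw [← mat_pow_a f hf, ← hadef, ← mat_mul, inv_mul_cancel, show mat 1 = 1 from rfl, one_mul, one_mul] at h3
    exact h3.symm
  have hk19 : k.val < 19 := k.2
  have hrel := rels_map γ (A := PA k.val) (T := IR r) (by rw [← hadef, hγa, hadef]; exact mat_pow_a _ hk19)
    (by rw [← htdef]; exact hγt)
    (ok_PA hk19) (ok_IV hor)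
  have hcand := allLt_spec checkCand_true r hr
  simp only [checkCand, Bool.and_eq_true, Bool.or_eq_true, Bool.not_eq_true', Nat.beq_eq] at hcand
  obtain ⟨⟨hc1, hc2⟩, hc4⟩ := hcand
  rcases hk with hk | hk | hk <;> rw [hk] at hrel hγa
  · have hr0 : r = 0 := hc1.resolve_right (by simp [hrel])
    subst hr0
    rw [pow_one] at hγa
    have hγt' : γ t = t := mat_injective (by rw [hγt, beq_eq IR_zero, htdef, mat_el])
    have hone : γ = 1 := by
      have hX : γ (el [false]) = el [false] := by
        rw [show el [false] = el (subW autWordX) from ((el_eq_iff _ _).2 (by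
          rw [beq_eq gen_words.1]; decide +kernel)).symm]
        exact map_el_sub (hadef ▸ hγa) (htdef ▸ hγt') _
      have hY : γ (el [true]) = el [true] := by
        rw [show el [true] = el (subW autWordY) from ((el_eq_iff _ _).2 (by
          rw [beq_eq gen_words.2.1]; decide +kernel)).symm]
        exact map_el_sub (hadef ▸ hγa) (htdef ▸ hγt') _
      ext ⟨g, hg⟩ : 1
      induction hg using Subgroup.closure_induction with
      | mem x hx =>
        rcases hx with rfl | rfl
        · simpa [el] using hX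
        · simpa [el] using hY
      | one => exact map_one γ
      | mul x y hx hy ihx ihy =>
        show γ (⟨x, hx⟩ * ⟨y, hy⟩) = ⟨x, hx⟩ * ⟨y, hy⟩
        rw [map_mul, ihx, ihy]; rfl
      | inv x hx ih =>
        show γ (⟨x, hx⟩⁻¹) = (⟨x, hx⟩ : Cfsg.Spor.J1)⁻¹
        rw [map_inv, ih]; rfl
    refine ⟨d * a ^ f, ?_⟩
    rw [map_mul]
    rw [hγ, inv_mul_eq_one] at hone
    rw [hone, hβ, mul_inv_cancel_left]
  · simp [hrel] at hc2
  · simp [hrel] at hc4

theorem card_out : Nat.card (Cfsg.Out ↥Cfsg.Spor.J1) = 1 := by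
  have h : Cfsg.Inn ↥Cfsg.Spor.J1 = ⊤ := eq_top_iff.2 fun α _ => aut_inner α
  rw [Cfsg.Out, ← Subgroup.index_eq_card, h, Subgroup.index_top]

end CfsgLib.J1
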