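import Cfsg.Prelude.Def_Spor_J1

/-!
Matrices of size 7 over the integers modulo 11 coded by seven numbers (16 bits per entry), for
computation in the kernel.
-/

set_option autoImplicit false

namespace CfsgLib.J1

/-- entry `k` of a coded row -/
def slot (k r : ℕ) : ℕ := Nat.shiftRight r (16 * k) % 65536

/-- coded row with the given entries -/
def pack (a0 a1 a2 a3 a4 a5 a6 : ℕ) : ℕ :=
  a0 + 65536 * (a1 + 65536 * (a2 + 65536 * (a3 + 65536 * (a4 + 65536 * (a5 + 65536 * a6)))))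

/-- coded matrix -/
structure M7 where
  r0 : ℕ
  r1 : ℕ
  r2 : ℕ
  r3 : ℕ
  r4 : ℕ
  r5 : ℕ
  r6 : ℕ

namespace M7

/-- row `i` -/
def row (a : M7) (i : Fin 7) : ℕ := ![a.r0, a.r1, a.r2, a.r3, a.r4, a.r5, a.r6] i

/-- boolean equality -/
def beq (a b : M7) : Bool :=
  Nat.beq a.r0 b.r0 && Nat.beq a.r1 b.r1 && Nat.beq a.r2 b.r2 && Nat.beq a.r3 b.r3 &&
    Nat.beq a.r4 b.r4 && Nat.beq a.r5 b.r5 && Nat.beq a.r6 b.r6

end M7

/-- reduction modulo 11 of every entry -/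
def nrm (s : ℕ) : ℕ :=
  pack (slot 0 s % 11) (slot 1 s % 11) (slot 2 s % 11) (slot 3 s % 11) (slot 4 s % 11)
    (slot 5 s % 11) (slot 6 s % 11)

/-- row times matrix -/
def rowMul (r : ℕ) (b : M7) : ℕ :=
  nrm (slot 0 r * b.r0 + slot 1 r * b.r1 + slot 2 r * b.r2 + slot 3 r * b.r3 + slot 4 r * b.r4
    + slot 5 r * b.r5 + slot 6 r * b.r6)

/-- product -/
def mul (a b : M7) : M7 :=
  ⟨rowMul a.r0 b, rowMul a.r1 b, rowMul a.r2 b, rowMul a.r3 b, rowMul a.r4 b, rowMul a.r5 b,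
    rowMul a.r6 b⟩

/-- identity -/
def one : M7 :=
  ⟨pack 1 0 0 0 0 0 0, pack 0 1 0 0 0 0 0, pack 0 0 1 0 0 0 0, pack 0 0 0 1 0 0 0,
    pack 0 0 0 0 1 0 0, pack 0 0 0 0 0 1 0, pack 0 0 0 0 0 0 1⟩

/-- dot product of coded rows -/
def dot (r w : ℕ) : ℕ :=
  (slot 0 r * slot 0 w + slot 1 r * slot 1 w + slot 2 r * slot 2 w + slot 3 r * slot 3 w
    + slot 4 r * slot 4 w + slot 5 r * slot 5 w + slot 6 r * slot 6 w) % 11

/-- matrix times column vector -/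
def mv (a : M7) (w : ℕ) : ℕ :=
  pack (dot a.r0 w) (dot a.r1 w) (dot a.r2 w) (dot a.r3 w) (dot a.r4 w) (dot a.r5 w) (dot a.r6 w)

/-- negative of a coded vector -/
def neg (w : ℕ) : ℕ :=
  pack ((10 * slot 0 w) % 11) ((10 * slot 1 w) % 11) ((10 * slot 2 w) % 11) ((10 * slot 3 w) % 11)
    ((10 * slot 4 w) % 11) ((10 * slot 5 w) % 11) ((10 * slot 6 w) % 11)

/-- validity of a row -/
def okRow (r : ℕ) : Bool :=
  Nat.blt (slot 0 r) 11 && Nat.blt (slot 1 r) 11 && Nat.blt (slot 2 r) 11 && Nat.blt (slot 3 r) 11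
    && Nat.blt (slot 4 r) 11 && Nat.blt (slot 5 r) 11 && Nat.blt (slot 6 r) 11
    && Nat.beq r (pack (slot 0 r) (slot 1 r) (slot 2 r) (slot 3 r) (slot 4 r) (slot 5 r) (slot 6 r))

/-- validity of a matrix -/
def okb (a : M7) : Bool :=
  okRow a.r0 && okRow a.r1 && okRow a.r2 && okRow a.r3 && okRow a.r4 && okRow a.r5 && okRow a.r6

/-- validity as a proposition -/
def Ok (a : M7) : Prop := okb a = true

/-- the vector coded by a number -/
def toV (w : ℕ) : Fin 7 → ZMod 11 := fun k => (slot k w : ℕ)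

/-- the matrix coded by seven numbers -/
def toM (a : M7) : Matrix (Fin 7) (Fin 7) (ZMod 11) := Matrix.of fun i => toV (a.row i)

theorem beq_eq {a b : M7} (h : a.beq b = true) : a = b := by
  obtain ⟨a0, a1, a2, a3, a4, a5, a6⟩ := a
  obtain ⟨b0, b1, b2, b3, b4, b5, b6⟩ := b
  simp only [M7.beq, Bool.and_eq_true, Nat.beq_eq] at h
  simp [h]

theorem beq_self (a : M7) : a.beq a = true := by simp [M7.beq]

theorem slot_pack {a0 a1 a2 a3 a4 a5 a6 : ℕ} (h0 : a0 < 65536) (h1 : a1 < 65536) (h2 : a2 < 65536)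
    (h3 : a3 < 65536) (h4 : a4 < 65536) (h5 : a5 < 65536) (h6 : a6 < 65536) (k : Fin 7) :
    slot k (pack a0 a1 a2 a3 a4 a5 a6) = ![a0, a1, a2, a3, a4, a5, a6] k := by
  unfold slot pack
  rw [Nat.shiftRight_eq', Nat.shiftRight_eq_div_pow]
  fin_cases k <;> simp <;> omega

theorem toV_pack {a0 a1 a2 a3 a4 a5 a6 : ℕ} (h0 : a0 < 65536) (h1 : a1 < 65536) (h2 : a2 < 65536)
    (h3 : a3 < 65536) (h4 : a4 < 65536) (h5 : a5 < 65536) (h6 : a6 < 65536) :
    toV (pack a0 a1 a2 a3 a4 a5 a6) = fun k => ((![a0, a1, a2, a3, a4, a5, a6] k : ℕ) : ZMod 11) := by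
  funext k
  rw [toV, slot_pack h0 h1 h2 h3 h4 h5 h6 k]

theorem dot_lt (r w : ℕ) : dot r w < 11 := Nat.mod_lt _ (by norm_num)

theorem cast_dot (r w : ℕ) : ((dot r w : ℕ) : ZMod 11) = ∑ k, toV r k * toV w k := by
  simp [dot, toV, Fin.sum_univ_seven, ZMod.natCast_mod]

theorem toV_mv (a : M7) (w : ℕ) : toV (mv a w) = (toM a).mulVec (toV w) := by
  have h : ∀ r, dot r w < 65536 := fun r => (dot_lt r w).trans (by norm_num)
  rw [mv, toV_pack (h _) (h _) (h _) (h _) (h _) (h _) (h _)]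
  funext i
  fin_cases i <;> simp [Matrix.mulVec, dotProduct, toM, M7.row, cast_dot]

theorem toV_neg (w : ℕ) : toV (neg w) = - toV w := by
  have h : ∀ r, r % 11 < 65536 := fun r => (Nat.mod_lt _ (by norm_num)).trans (by norm_num)
  rw [neg, toV_pack (h _) (h _) (h _) (h _) (h _) (h _) (h _)]
  funext i
  have h10 : (10 : ZMod 11) = -1 := by decide
  fin_cases i <;> simp [toV, h10, ZMod.natCast_mod]

theorem okRow_spec {r : ℕ} (h : okRow r = true) :
    (∀ k : Fin 7, slot k r < 11) ∧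
      r = pack (slot 0 r) (slot 1 r) (slot 2 r) (slot 3 r) (slot 4 r) (slot 5 r) (slot 6 r) := by
  simp only [okRow, Bool.and_eq_true, Nat.blt_eq, Nat.beq_eq] at h
  obtain ⟨⟨⟨⟨⟨⟨⟨h0, h1⟩, h2⟩, h3⟩, h4⟩, h5⟩, h6⟩, he⟩ := h
  refine ⟨fun k => ?_, he⟩
  fin_cases k <;> assumption

theorem Ok.row {a : M7} (h : Ok a) (i : Fin 7) : okRow (a.row i) = true := by
  simp only [Ok, okb, Bool.and_eq_true] at h
  fin_cases i <;> simp [M7.row, h]

theorem okRow_nrm (s : ℕ) : okRow (nrm s) = true := by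
  have h : ∀ r, r % 11 < 65536 := fun r => (Nat.mod_lt _ (by norm_num)).trans (by norm_num)
  have hs : ∀ k : Fin 7, slot k (nrm s) = slot k s % 11 := fun k => by
    rw [nrm, slot_pack (h _) (h _) (h _) (h _) (h _) (h _) (h _) k]
    fin_cases k <;> rfl
  have h0 : slot 0 (nrm s) = _ := hs 0
  have h1 : slot 1 (nrm s) = _ := hs 1
  have h2 : slot 2 (nrm s) = _ := hs 2
  have h3 : slot 3 (nrm s) = _ := hs 3
  have h4 : slot 4 (nrm s) = _ := hs 4
  have h5 : slot 5 (nrm s) = _ := hs 5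
  have h6 : slot 6 (nrm s) = _ := hs 6
  simp only [okRow, h0, h1, h2, h3, h4, h5, h6, Bool.and_eq_true, Nat.blt_eq, Nat.beq_eq]
  simp [Nat.mod_lt, nrm]

theorem Ok.mul (a b : M7) : Ok (mul a b) := by
  simp [Ok, okb, J1.mul, rowMul, okRow_nrm]

theorem ok_one : Ok one := show okb one = true by decide +kernel

theorem toM_one : toM one = 1 := by decide +kernel

theorem mul_pack (c a0 a1 a2 a3 a4 a5 a6 : ℕ) :
    c * pack a0 a1 a2 a3 a4 a5 a6 = pack (c * a0) (c * a1) (c * a2) (c * a3) (c * a4) (c * a5) (c * a6) := by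
  simp only [pack]; ring

theorem add_pack (a0 a1 a2 a3 a4 a5 a6 b0 b1 b2 b3 b4 b5 b6 : ℕ) :
    pack a0 a1 a2 a3 a4 a5 a6 + pack b0 b1 b2 b3 b4 b5 b6
      = pack (a0 + b0) (a1 + b1) (a2 + b2) (a3 + b3) (a4 + b4) (a5 + b5) (a6 + b6) := by
  simp only [pack]; ring

theorem lin_pack (c : Fin 7 → ℕ) (d : Fin 7 → Fin 7 → ℕ) :
    c 0 * pack (d 0 0) (d 0 1) (d 0 2) (d 0 3) (d 0 4) (d 0 5) (d 0 6)
      + c 1 * pack (d 1 0) (d 1 1) (d 1 2) (d 1 3) (d 1 4) (d 1 5) (d 1 6)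
      + c 2 * pack (d 2 0) (d 2 1) (d 2 2) (d 2 3) (d 2 4) (d 2 5) (d 2 6)
      + c 3 * pack (d 3 0) (d 3 1) (d 3 2) (d 3 3) (d 3 4) (d 3 5) (d 3 6)
      + c 4 * pack (d 4 0) (d 4 1) (d 4 2) (d 4 3) (d 4 4) (d 4 5) (d 4 6)
      + c 5 * pack (d 5 0) (d 5 1) (d 5 2) (d 5 3) (d 5 4) (d 5 5) (d 5 6)
      + c 6 * pack (d 6 0) (d 6 1) (d 6 2) (d 6 3) (d 6 4) (d 6 5) (d 6 6)
      = pack (∑ j, c j * d j 0) (∑ j, c j * d j 1) (∑ j, c j * d j 2) (∑ j, c j * d j 3)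
          (∑ j, c j * d j 4) (∑ j, c j * d j 5) (∑ j, c j * d j 6) := by
  simp only [mul_pack, add_pack, Fin.sum_univ_seven]

theorem slot_nrm (s : ℕ) (k : Fin 7) : slot k (nrm s) = slot k s % 11 := by
  have h : ∀ r, r % 11 < 65536 := fun r => (Nat.mod_lt _ (by norm_num)).trans (by norm_num)
  rw [nrm, slot_pack (h _) (h _) (h _) (h _) (h _) (h _) (h _) k]
  fin_cases k <;> rfl

theorem slot_pack' (S : Fin 7 → ℕ) (hS : ∀ k, S k < 65536) (k : Fin 7) :
    slot k (pack (S 0) (S 1) (S 2) (S 3) (S 4) (S 5) (S 6)) = S k := by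
  rw [slot_pack (hS _) (hS _) (hS _) (hS _) (hS _) (hS _) (hS _) k]
  fin_cases k <;> rfl

theorem toV_rowMul {r : ℕ} {b : M7} (hr : okRow r = true) (hb : Ok b) :
    toV (rowMul r b) = Matrix.vecMul (toV r) (toM b) := by
  have hc := (okRow_spec hr).1
  have key : ∀ (c : Fin 7 → ℕ) (d : Fin 7 → Fin 7 → ℕ) (m : Fin 7 → ℕ), (∀ j, c j ≤ 10) →
      (∀ j k, d j k ≤ 10) →
      (∀ j, m j = pack (d j 0) (d j 1) (d j 2) (d j 3) (d j 4) (d j 5) (d j 6)) →
      ∀ k : Fin 7, (((slot k (nrm (c 0 * m 0 + c 1 * m 1 + c 2 * m 2 + c 3 * m 3 + c 4 * m 4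
        + c 5 * m 5 + c 6 * m 6))) : ℕ) : ZMod 11) = ∑ j, (c j : ZMod 11) * (d j k : ZMod 11) := by
    intro c d m hc hd hm k
    simp only [hm]
    rw [lin_pack, slot_nrm, slot_pack' (fun k => ∑ j, c j * d j k) _ k]
    · rw [ZMod.natCast_mod, Nat.cast_sum]
      simp
    · intro k
      have h1 : ∑ j, c j * d j k ≤ ∑ _j : Fin 7, 10 * 10 :=
        Finset.sum_le_sum fun j _ => Nat.mul_le_mul (hc j) (hd j k)
      simp only [Finset.sum_const, Finset.card_univ, Fintype.card_fin, smul_eq_mul] at h1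
      omega
  funext k
  have := key (fun j => slot j r) (fun j k => slot k (b.row j)) b.row
    (fun j => Nat.le_of_lt_succ (hc j))
    (fun j k => Nat.le_of_lt_succ ((okRow_spec (hb.row j)).1 k))
    (fun j => (okRow_spec (hb.row j)).2) k
  simpa [rowMul, toV, toM, M7.row, Matrix.vecMul, dotProduct] using this

theorem toM_mul {a b : M7} (ha : Ok a) (hb : Ok b) : toM (mul a b) = toM a * toM b := by
  have h : ∀ i, toV ((mul a b).row i) = Matrix.vecMul (toV (a.row i)) (toM b) := fun i => by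
    rw [← toV_rowMul (ha.row i) hb]
    fin_cases i <;> rfl
  funext i
  exact h i

theorem toM_inj {a b : M7} (ha : Ok a) (hb : Ok b) (h : toM a = toM b) : a = b := by
  have hrow : ∀ i, a.row i = b.row i := fun i => by
    obtain ⟨la, ea⟩ := okRow_spec (ha.row i)
    obtain ⟨lb, eb⟩ := okRow_spec (hb.row i)
    have hk : ∀ k : Fin 7, slot k (a.row i) = slot k (b.row i) := fun k => by
      have := congrFun (congrFun h i) k
      simp only [toM, toV, Matrix.of_apply, ZMod.natCast_eq_natCast_iff'] at this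
      rwa [Nat.mod_eq_of_lt (la k), Nat.mod_eq_of_lt (lb k)] at this
    rw [ea, eb]
    have k0 : slot 0 _ = slot 0 _ := hk 0
    have k1 : slot 1 _ = slot 1 _ := hk 1
    have k2 : slot 2 _ = slot 2 _ := hk 2
    have k3 : slot 3 _ = slot 3 _ := hk 3
    have k4 : slot 4 _ = slot 4 _ := hk 4
    have k5 : slot 5 _ = slot 5 _ := hk 5
    have k6 : slot 6 _ = slot 6 _ := hk 6
    rw [k0, k1, k2, k3, k4, k5, k6]
  obtain ⟨a0, a1, a2, a3, a4, a5, a6⟩ := a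
  obtain ⟨b0, b1, b2, b3, b4, b5, b6⟩ := b
  simp only [M7.mk.injEq]
  exact ⟨hrow 0, hrow 1, hrow 2, hrow 3, hrow 4, hrow 5, hrow 6⟩

/-- product of a word in the two generators -/
def word (gx gy : M7) : List Bool → M7
  | [] => one
  | b :: w => mul (bif b then gy else gx) (word gx gy w)

theorem ok_word (gx gy : M7) : ∀ w, Ok (word gx gy w)
  | [] => ok_one
  | _ :: _ => Ok.mul _ _

/-- coded generator X -/
def gX : M7 :=
  ⟨pack 0 1 0 0 0 0 0, pack 0 0 1 0 0 0 0, pack 0 0 0 1 0 0 0, pack 0 0 0 0 1 0 0,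
    pack 0 0 0 0 0 1 0, pack 0 0 0 0 0 0 1, pack 1 0 0 0 0 0 0⟩

/-- coded generator Y -/
def gY : M7 :=
  ⟨pack 8 2 10 10 8 10 8, pack 9 1 1 3 1 3 3, pack 10 10 8 10 8 8 2, pack 10 8 10 8 8 2 10,
    pack 8 10 8 8 2 10 10, pack 1 3 3 9 1 1 3, pack 3 3 9 1 1 3 1⟩

theorem ok_gX : Ok gX := show okb gX = true by decide +kernel
theorem ok_gY : Ok gY := show okb gY = true by decide +kernel
theorem toM_gX : toM gX = Cfsg.jankoMatrixX := by decide +kernel
theorem toM_gY : toM gY = Cfsg.jankoMatrixY := by decide +kernel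

/-- transpose -/
def transp (a : M7) : M7 :=
  let col := fun k => pack (slot k a.r0) (slot k a.r1) (slot k a.r2) (slot k a.r3) (slot k a.r4)
    (slot k a.r5) (slot k a.r6)
  ⟨col 0, col 1, col 2, col 3, col 4, col 5, col 6⟩

end CfsgLib.J1
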