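import Cfsg.Agent.Lib.Sporadic.J1.Spectrum
import Cfsg.Agent.Lib.Schur.Trivial

/-!
The Schur multiplier of J1 is trivial.
-/

set_option autoImplicit false

namespace CfsgLib.J1

open scoped commutatorElement

theorem e8_comm : ∀ i j, (word gX gY (e8 i ++ e8 j)).beq (word gX gY (e8 j ++ e8 i)) = true := by
  decide +kernel

theorem singer :
    (word gX gY (w7 ++ e8 1)).beq (word gX gY (e8 5 ++ w7)) = true ∧
    (word gX gY (w7 ++ e8 5)).beq (word gX gY (e8 3 ++ w7)) = true ∧
    (word gX gY (w7 ++ e8 3)).beq (word gX gY ((e8 1 ++ e8 5) ++ w7)) = true := by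
  decide +kernel

theorem e8_gen : ∀ i, ∃ j : Fin 8, (word gX gY (e8 i)).beq (word gX gY
    ((if j.val % 2 = 1 then e8 1 else []) ++ (if j.val / 2 % 2 = 1 then e8 5 else []) ++
      (if j.val / 4 % 2 = 1 then e8 3 else []))) = true := by
  decide +kernel

theorem multiplier : Cfsg.HasCyclicSchurMultiplier Cfsg.Spor.J1 1 := by
  have : Finite Cfsg.Spor.J1 := Nat.finite_of_card_ne_zero (by rw [card_J1]; norm_num)
  refine SchurTrivial.hasCyclic_one fun Γ _ _ σ hs hc hd r hr hdvd => ?_
  haveI := Fact.mk hr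
  by_cases h2 : r = 2
  · subst h2
    have hf : Nat.factorization 175560 2 = 3 := by
      rw [show (175560 : ℕ) = 2 ^ 3 * 21945 by norm_num, Nat.factorization_mul (by norm_num) (by norm_num),
        Nat.factorization_pow]
      simp [Nat.Prime.factorization_self Nat.prime_two, Nat.factorization_eq_zero_of_not_dvd
        (show ¬ 2 ∣ 21945 by norm_num)]
    let Q : Sylow 2 Cfsg.Spor.J1 := Sylow.ofCard E8 (by rw [card_E8, card_J1, hf]; rfl)
    refine SchurTrivial.not_dvd_card_ker_of_gens hs hc hd Q {el (e8 1), el (e8 5), el (e8 3)} ?_ ?_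
    · rintro g hg
      obtain ⟨i, rfl⟩ : g ∈ E8 := hg
      obtain ⟨j, hj⟩ := e8_gen i
      show el (e8 i) ∈ _
      rw [(el_eq_iff _ _).2 hj, el_append, el_append]
      refine mul_mem (mul_mem ?_ ?_) ?_ <;>
        first
          | (split
             · exact Subgroup.subset_closure (by simp)
             · exact one_mem _)
    · have hcomm : ∀ i j, el (e8 i) * el (e8 j) = el (e8 j) * el (e8 i) := fun i j => by
        rw [← el_append, ← el_append, el_eq_iff]; exact e8_comm i j
      have hlift : ∀ {A B C T : Γ}, σ A = el (e8 1) → σ B = el (e8 5) → σ C = el (e8 3) →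
          σ T = el w7 → ⁅A, B⁆ = 1 ∧ ⁅B, C⁆ = 1 ∧ ⁅C, A⁆ = 1 := fun hA hB hC hT =>
        SchurTrivial.comm_eq_one_of_singer hc (by rw [hA, hB, hcomm]) (by rw [hB, hC, hcomm])
          (by rw [hC, hA, hcomm])
          (by rw [hT, hA, hB, ← el_append, ← el_append, el_eq_iff]; exact singer.1)
          (by rw [hT, hB, hC, ← el_append, ← el_append, el_eq_iff]; exact singer.2.1)
          (by rw [map_mul, hT, hA, hB, hC, ← el_append, ← el_append, ← el_append, el_eq_iff]
              exact singer.2.2)
      obtain ⟨T, hT⟩ := hs (el w7)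
      obtain ⟨A, hA⟩ := hs (el (e8 1))
      obtain ⟨B, hB⟩ := hs (el (e8 5))
      obtain ⟨C, hC⟩ := hs (el (e8 3))
      have cm : ∀ {X Y : Γ}, ⁅X, Y⁆ = 1 → X * Y = Y * X := fun h =>
        commutatorElement_eq_one_iff_mul_comm.1 h
      have central : ∀ {X X' : Γ}, σ X = σ X' → ∀ {Y Y' : Γ}, σ Y = σ Y' →
          (X' * Y' = Y' * X' ↔ X * Y = Y * X) := fun hX _ _ hY => by
        rw [← commutatorElement_eq_one_iff_mul_comm, ← commutatorElement_eq_one_iff_mul_comm,
          SchurTrivial.comm_congr hc hX hY]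
      intro X Y hX hY
      obtain ⟨hAB, hBC, hCA⟩ := hlift hA hB hC hT
      rw [← hA, ← hB, ← hC] at hX hY
      simp only [Set.mem_insert_iff, Set.mem_singleton_iff] at hX hY
      rcases hX with hX | hX | hX <;> rcases hY with hY | hY | hY <;>
        first
          | exact (central hX hY).1 rfl
          | exact (central hX hY).1 (cm hAB)
          | exact (central hX hY).1 (cm hAB).symm
          | exact (central hX hY).1 (cm hBC)
          | exact (central hX hY).1 (cm hBC).symm
          | exact (central hX hY).1 (cm hCA)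
          | exact (central hX hY).1 (cm hCA).symm
  · refine SchurBound.not_dvd_card_ker_of_sq_not_dvd σ hs hc hd fun hsq => ?_
    rw [card_J1] at hsq
    have hodd : Nat.Coprime (r ^ 2) 8 := by
      have := (Nat.coprime_primes hr Nat.prime_two).2 h2
      exact (this.pow 2 3)
    have h3 : r ^ 2 ∣ 21945 :=
      hodd.dvd_of_dvd_mul_left (show r ^ 2 ∣ 8 * 21945 by simpa using hsq)
    have hr' : r ∣ 3 * (5 * (7 * (11 * 19))) := (dvd_pow_self r two_ne_zero).trans h3
    have eq_of : ∀ k : ℕ, k.Prime → r ∣ k → r = k := fun k hk h => (Nat.prime_dvd_prime_iff_eq hr hk).1 h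
    rcases (Nat.Prime.dvd_mul hr).1 hr' with h | h
    · rw [eq_of 3 (by norm_num) h] at h3; norm_num at h3
    rcases (Nat.Prime.dvd_mul hr).1 h with h | h
    · rw [eq_of 5 (by norm_num) h] at h3; norm_num at h3
    rcases (Nat.Prime.dvd_mul hr).1 h with h | h
    · rw [eq_of 7 (by norm_num) h] at h3; norm_num at h3
    rcases (Nat.Prime.dvd_mul hr).1 h with h | h
    · rw [eq_of 11 (by norm_num) h] at h3; norm_num at h3
    · rw [eq_of 19 (by norm_num) h] at h3; norm_num at h3

end CfsgLib.J1
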