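import Cfsg.Agent.Lib.Sporadic.J1.Code
import Cfsg.Agent.Lib.Sporadic.J1.DataT
import Cfsg.Agent.Lib.Sporadic.J1.DataE

/-!
The matrix group J1 is covered by 1540 * 114 products of tabulated matrices.
-/

set_option autoImplicit false

namespace CfsgLib.J1

open scoped MatrixGroups

/-- entry of a two-level table -/
def get2 {β : Type} (d : β) (L : List (List β)) (i : ℕ) : β := (L.getD (i / 40) []).getD (i % 40) d

/-- tabulated representative -/
def T (i : ℕ) : M7 := get2 one tData i

/-- tabulated stabiliser element -/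
def H (n : ℕ) : M7 := get2 one hData n

/-- bounded universal quantifier -/
noncomputable def allLt (k : ℕ) (f : ℕ → Bool) : Bool := Nat.rec true (fun j ih => f j && ih) k

theorem allLt_spec {f : ℕ → Bool} : ∀ {k : ℕ}, allLt k f = true → ∀ i, i < k → f i = true
  | 0, _, i, hi => absurd hi (by omega)
  | k + 1, h, i, hi => by
    change (f k && allLt k f) = true at h
    rw [Bool.and_eq_true] at h
    rcases Nat.lt_succ_iff_lt_or_eq.1 hi with hi | rfl
    · exact allLt_spec h.2 i hi
    · exact h.1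

/-- validity check of the tables -/
noncomputable def checkOk : Bool := allLt 1540 (fun i => okb (T i)) && allLt 114 (fun n => okb (H n))

/-- edge check -/
def checkEdge (i : ℕ) : Bool :=
  match get2 (0, 0, 0, 0) eData i with
  | (j, n, j', n') =>
    Nat.blt j 1540 && Nat.blt n 114 && Nat.blt j' 1540 && Nat.blt n' 114 &&
      (mul gX (T i)).beq (mul (T j) (H n)) && (mul gY (T i)).beq (mul (T j') (H n'))

/-- stabiliser table check -/
def checkH (n : ℕ) : Bool :=
  match get2 (0, 0, 0, 0) hTree n with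
  | (k, p, la, lb) =>
    Nat.blt la 114 && Nat.blt lb 114 && (mul (H 1) (H n)).beq (H la) && (mul (H 2) (H n)).beq (H lb) &&
      (Nat.beq n 0 || (Nat.blt p n && (H n).beq (mul (bif Nat.beq k 0 then H 1 else H 2) (H p))))

theorem checkOk_true : checkOk = true := by decide +kernel
theorem checkEdge_true : allLt 1540 checkEdge = true := by decide +kernel
theorem checkH_true : allLt 114 checkH = true := by decide +kernel
theorem T_zero : (T 0).beq one = true := by decide +kernel
theorem H_zero : (H 0).beq one = true := by decide +kernel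

theorem ok_T {i : ℕ} (h : i < 1540) : Ok (T i) := by
  have := checkOk_true
  rw [checkOk, Bool.and_eq_true] at this
  exact allLt_spec this.1 i h

theorem ok_H {n : ℕ} (h : n < 114) : Ok (H n) := by
  have := checkOk_true
  rw [checkOk, Bool.and_eq_true] at this
  exact allLt_spec this.2 n h

theorem mulH_gen {n : ℕ} (hn : n < 114) :
    (∃ l < 114, toM (H 1) * toM (H n) = toM (H l)) ∧ (∃ l < 114, toM (H 2) * toM (H n) = toM (H l)) := by
  have h := allLt_spec checkH_true n hn
  unfold checkH at h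
  generalize get2 (0, 0, 0, 0) hTree n = e at h
  obtain ⟨k, p, la, lb⟩ := e
  simp only [Bool.and_eq_true, Nat.blt_eq] at h
  obtain ⟨⟨⟨⟨h1, h2⟩, h3⟩, h4⟩, -⟩ := h
  exact ⟨⟨la, h1, by rw [← toM_mul (ok_H (by omega)) (ok_H hn), beq_eq h3]⟩,
    ⟨lb, h2, by rw [← toM_mul (ok_H (by omega)) (ok_H hn), beq_eq h4]⟩⟩

theorem mulH : ∀ n, n < 114 → ∀ m, m < 114 → ∃ l < 114, toM (H n) * toM (H m) = toM (H l) := by
  intro n
  induction n using Nat.strong_induction_on with
  | _ n ih =>
    intro hn m hm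
    rcases Nat.eq_zero_or_pos n with rfl | hpos
    · exact ⟨m, hm, by rw [beq_eq H_zero, toM_one, one_mul]⟩
    have h := allLt_spec checkH_true n hn
    unfold checkH at h
    generalize get2 (0, 0, 0, 0) hTree n = e at h
    obtain ⟨k, p, la, lb⟩ := e
    simp only [Bool.and_eq_true, Bool.or_eq_true, Nat.beq_eq, Nat.blt_eq] at h
    obtain ⟨-, h⟩ := h
    obtain ⟨hp, he⟩ := h.resolve_left (by omega)
    obtain ⟨l, hl, hle⟩ := ih p hp (by omega) m hm
    rw [beq_eq he]
    cases Nat.beq k 0
    · obtain ⟨q, hq, hqe⟩ := (mulH_gen hl).2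
      exact ⟨q, hq, by rw [cond_false, toM_mul (ok_H (by omega)) (ok_H (by omega)), mul_assoc, hle, hqe]⟩
    · obtain ⟨q, hq, hqe⟩ := (mulH_gen hl).1
      exact ⟨q, hq, by rw [cond_true, toM_mul (ok_H (by omega)) (ok_H (by omega)), mul_assoc, hle, hqe]⟩

/-- membership in the covered set -/
def Covered (g : GL (Fin 7) (ZMod 11)) : Prop :=
  ∃ i < 1540, ∃ n < 114, (g : Matrix (Fin 7) (Fin 7) (ZMod 11)) = toM (T i) * toM (H n)

theorem covered_gen {g h : GL (Fin 7) (ZMod 11)} (hg : g = Cfsg.Spor.jankoX ∨ g = Cfsg.Spor.jankoY)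
    (hh : Covered h) : Covered (g * h) := by
  obtain ⟨i, hi, n, hn, e⟩ := hh
  have hc := allLt_spec checkEdge_true i hi
  unfold checkEdge at hc
  generalize get2 (0, 0, 0, 0) eData i = t at hc
  obtain ⟨j, a, j', a'⟩ := t
  simp only [Bool.and_eq_true, Nat.blt_eq] at hc
  obtain ⟨⟨⟨⟨⟨hj, ha⟩, hj'⟩, ha'⟩, ex⟩, ey⟩ := hc
  rcases hg with rfl | rfl
  · obtain ⟨l, hl, hle⟩ := mulH a ha n hn
    refine ⟨j, hj, l, hl, ?_⟩
    rw [Units.val_mul, e, ← hle, ← mul_assoc, ← mul_assoc, ← toM_mul (ok_T hj) (ok_H ha), ← beq_eq ex,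
      toM_mul ok_gX (ok_T hi), toM_gX]
    rfl
  · obtain ⟨l, hl, hle⟩ := mulH a' ha' n hn
    refine ⟨j', hj', l, hl, ?_⟩
    rw [Units.val_mul, e, ← hle, ← mul_assoc, ← mul_assoc, ← toM_mul (ok_T hj') (ok_H ha'), ← beq_eq ey,
      toM_mul ok_gY (ok_T hi), toM_gY]
    rfl

theorem covered {g : GL (Fin 7) (ZMod 11)} (hg : g ∈ Cfsg.Spor.J1) : Covered g := by
  have h1 : Covered 1 := ⟨0, by norm_num, 0, by norm_num, by
    rw [beq_eq T_zero, beq_eq H_zero, toM_one, mul_one, Units.val_one]⟩
  have key : ∀ g ∈ Cfsg.Spor.J1, ∀ h, Covered h → Covered (g * h) := by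
    intro g hg
    induction hg using Subgroup.closure_induction with
    | mem x hx => exact fun h hh => covered_gen (by simpa using hx) hh
    | one => intro h hh; rwa [one_mul]
    | mul x y _ _ ihx ihy => intro h hh; rw [mul_assoc]; exact ihx _ (ihy _ hh)
    | inv x _ ih =>
      intro h hh
      have hn : ∀ k : ℕ, Covered (x ^ k * h) := by
        intro k
        induction k with
        | zero => rwa [pow_zero, one_mul]
        | succ k ihk => rw [pow_succ', mul_assoc]; exact ih _ ihk
      have he : x⁻¹ = x ^ (orderOf x - 1) := by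
        refine inv_eq_of_mul_eq_one_right ?_
        rw [← pow_succ', Nat.sub_one_add_one (orderOf_pos x).ne', pow_orderOf_eq_one]
      rw [he]; exact hn _
  simpa using key g hg 1 h1

theorem card_le : Nat.card Cfsg.Spor.J1 ≤ 175560 := by
  classical
  choose i hi n hn e using fun g : Cfsg.Spor.J1 => covered g.2
  have := Nat.card_le_card_of_injective
    (fun g : Cfsg.Spor.J1 => ((⟨i g, hi g⟩ : Fin 1540), (⟨n g, hn g⟩ : Fin 114))) (fun a b hab => by
      simp only [Prod.mk.injEq, Fin.mk.injEq] at hab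
      apply Subtype.ext
      apply Units.ext
      rw [e a, e b, hab.1, hab.2])
  simpa using this

end CfsgLib.J1
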