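import Cfsg.Agent.Lib.Sporadic.J1.Order
import Mathlib.GroupTheory.Sylow

/-!
The order and the set of element orders of the matrix group J1.
-/

set_option autoImplicit false
set_option linter.style.haveILetI false

namespace CfsgLib.J1

open Matrix
open scoped MatrixGroups

/-- product of generators along a word -/
def el (w : List Bool) : Cfsg.Spor.J1 :=
  (w.map fun b => bif b then (⟨Cfsg.Spor.jankoY, Subgroup.subset_closure (Or.inr rfl)⟩ : Cfsg.Spor.J1)
    else ⟨Cfsg.Spor.jankoX, Subgroup.subset_closure (Or.inl rfl)⟩).prod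

/-- matrix of an element -/
abbrev mat (g : Cfsg.Spor.J1) : Matrix (Fin 7) (Fin 7) (ZMod 11) :=
  ((g : GL (Fin 7) (ZMod 11)) : Matrix (Fin 7) (Fin 7) (ZMod 11))

theorem mat_el : ∀ w, mat (el w) = toM (word gX gY w)
  | [] => toM_one.symm
  | b :: w => by
    have ih := mat_el w
    simp only [el, List.map_cons, List.prod_cons] at ih ⊢
    cases b
    · rw [word, cond_false, cond_false, toM_mul ok_gX (ok_word _ _ _), ← ih, toM_gX]; rfl
    · rw [word, cond_true, cond_true, toM_mul ok_gY (ok_word _ _ _), ← ih, toM_gY]; rfl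

theorem el_append (u w : List Bool) : el (u ++ w) = el u * el w := by simp [el]

theorem el_rep (w : List Bool) : ∀ n, el (List.replicate n w).flatten = el w ^ n
  | 0 => rfl
  | n + 1 => by rw [List.replicate_succ, List.flatten_cons, el_append, el_rep w n, pow_succ']

theorem mat_injective : Function.Injective mat := fun _ _ h => Subtype.ext (Units.ext h)

theorem el_eq_iff (u w : List Bool) : el u = el w ↔ (word gX gY u).beq (word gX gY w) = true := by
  constructor
  · intro h
    rw [toM_inj (ok_word _ _ u) (ok_word _ _ w) (by rw [← mat_el, ← mat_el, h])]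
    exact beq_self _
  · intro h
    exact mat_injective (by rw [mat_el, mat_el, beq_eq h])

theorem el_pow_eq_one_iff (w : List Bool) (n : ℕ) :
    el w ^ n = 1 ↔ (word gX gY (List.replicate n w).flatten).beq one = true := by
  rw [← el_rep, show (1 : Cfsg.Spor.J1) = el [] from rfl, el_eq_iff]; rfl

/-- word of an element of order 7 -/
def w7 : List Bool := [false]
/-- word of an element of order 11 -/
def w11 : List Bool := [false, true, true]
/-- word of an element of order 19 -/
def w19 : List Bool := [false, false, false, true]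
/-- word of an element of order 15 -/
def w15 : List Bool := [false, false, true, true, false, true, false, true, true]
/-- word of an element of order 10 -/
def w10 : List Bool := [false, true]
/-- word of an element of order 6 -/
def w6 : List Bool := [false, true, true, true]

theorem orderOf_el (w : List Bool) (n : ℕ) (hn : 0 < n)
    (h1 : (word gX gY (List.replicate n w).flatten).beq one = true)
    (h2 : ∀ m : Fin n, 0 < m.val → (word gX gY (List.replicate m.val w).flatten).beq one = false) :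
    orderOf (el w) = n := by
  rw [orderOf_eq_iff hn]
  refine ⟨(el_pow_eq_one_iff w n).2 h1, fun m hm hpos h => ?_⟩
  rw [el_pow_eq_one_iff] at h
  rw [h2 ⟨m, hm⟩ hpos] at h
  exact absurd h (by decide)

theorem orderOf_w7 : orderOf (el w7) = 7 :=
  orderOf_el _ _ (by norm_num) (by decide +kernel) (by decide +kernel)
theorem orderOf_w11 : orderOf (el w11) = 11 :=
  orderOf_el _ _ (by norm_num) (by decide +kernel) (by decide +kernel)
theorem orderOf_w19 : orderOf (el w19) = 19 :=
  orderOf_el _ _ (by norm_num) (by decide +kernel) (by decide +kernel)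
theorem orderOf_w15 : orderOf (el w15) = 15 :=
  orderOf_el _ _ (by norm_num) (by decide +kernel) (by decide +kernel)
theorem orderOf_w10 : orderOf (el w10) = 10 :=
  orderOf_el _ _ (by norm_num) (by decide +kernel) (by decide +kernel)
theorem orderOf_w6 : orderOf (el w6) = 6 :=
  orderOf_el _ _ (by norm_num) (by decide +kernel) (by decide +kernel)

/-! ### The subgroup of order eight -/

/-- words of the elements of a subgroup of order eight -/
def e8 : Fin 8 → List Bool :=
  let a := [false, true, false, true, true, true, true]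
  let b := [true, false, true, true, true, true, false]
  let c := [false, false, true, false, false, true, true, true, true]
  ![[], a, b, a ++ b, c, a ++ c, b ++ c, a ++ b ++ c]

theorem e8_mul : ∀ i j, ∃ k, (word gX gY (e8 i ++ e8 j)).beq (word gX gY (e8 k)) = true := by
  decide +kernel
theorem e8_sq : ∀ i, (word gX gY (List.replicate 2 (e8 i)).flatten).beq one = true := by decide +kernel
theorem e8_ne : ∀ i j, i ≠ j → (word gX gY (e8 i)).beq (word gX gY (e8 j)) = false := by decide +kernel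

/-- the subgroup of order eight -/
def E8 : Subgroup Cfsg.Spor.J1 where
  carrier := Set.range fun i => el (e8 i)
  one_mem' := ⟨0, rfl⟩
  mul_mem' := by
    rintro _ _ ⟨i, rfl⟩ ⟨j, rfl⟩
    obtain ⟨k, hk⟩ := e8_mul i j
    refine ⟨k, ?_⟩
    simp only [← el_append]
    exact ((el_eq_iff _ _).2 hk).symm
  inv_mem' := by
    rintro _ ⟨i, rfl⟩
    have h := (el_pow_eq_one_iff (e8 i) 2).2 (e8_sq i)
    exact ⟨i, (inv_eq_of_mul_eq_one_right (by simpa [sq] using h)).symm⟩

theorem sq_of_mem_E8 {g : Cfsg.Spor.J1} (hg : g ∈ E8) : g ^ 2 = 1 := by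
  obtain ⟨i, rfl⟩ := hg
  exact (el_pow_eq_one_iff _ _).2 (e8_sq i)

theorem card_E8 : Nat.card E8 = 8 := by
  have hinj : Function.Injective fun i => el (e8 i) := fun i j h => by
    by_contra hne
    have := (el_eq_iff _ _).1 h
    rw [e8_ne i j hne] at this
    exact absurd this (by decide)
  rw [show Nat.card E8 = Nat.card (Set.range fun i => el (e8 i)) from rfl,
    Nat.card_range_of_injective hinj, Nat.card_eq_fintype_card, Fintype.card_fin]

theorem eq_of_dvds {N : ℕ} (hN : 0 < N) (hle : N ≤ 175560) (h8 : 8 ∣ N) (h15 : 15 ∣ N) (h7 : 7 ∣ N)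
    (h11 : 11 ∣ N) (h19 : 19 ∣ N) : N = 175560 := by
  have h : 8 * 15 * 7 * 11 * 19 ∣ N :=
    Nat.Coprime.mul_dvd_of_dvd_of_dvd (by norm_num)
      (Nat.Coprime.mul_dvd_of_dvd_of_dvd (by norm_num)
        (Nat.Coprime.mul_dvd_of_dvd_of_dvd (by norm_num)
          (Nat.Coprime.mul_dvd_of_dvd_of_dvd (by norm_num) h8 h15) h7) h11) h19
  exact le_antisymm hle (le_trans (le_of_eq (by norm_num)) (Nat.le_of_dvd hN h))

theorem dvd_card_of_orderOf {w : List Bool} {n : ℕ} (h : orderOf (el w) = n) :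
    n ∣ Nat.card Cfsg.Spor.J1 := by
  subst h
  exact orderOf_dvd_natCard (el w)

theorem eight_dvd_card : 8 ∣ Nat.card Cfsg.Spor.J1 := by
  have h := Subgroup.card_subgroup_dvd_card E8
  rwa [card_E8] at h

theorem card_J1 : Nat.card Cfsg.Spor.J1 = 175560 :=
  eq_of_dvds (Nat.card_pos (α := Cfsg.Spor.J1)) card_le eight_dvd_card
    (dvd_card_of_orderOf orderOf_w15) (dvd_card_of_orderOf orderOf_w7)
    (dvd_card_of_orderOf orderOf_w11) (dvd_card_of_orderOf orderOf_w19)

/-! ### Orthogonality -/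

theorem orth_mul {A B : Matrix (Fin 7) (Fin 7) (ZMod 11)} (ha : Aᵀ * A = 1) (hb : Bᵀ * B = 1) :
    (A * B)ᵀ * (A * B) = 1 := by
  rw [transpose_mul, Matrix.mul_assoc, ← Matrix.mul_assoc Aᵀ, ha, Matrix.one_mul, hb]

/-- orthogonal matrices of determinant one -/
def SO7 : Subgroup (GL (Fin 7) (ZMod 11)) where
  carrier := {g | (g : Matrix (Fin 7) (Fin 7) (ZMod 11))ᵀ * (g : Matrix (Fin 7) (Fin 7) (ZMod 11)) = 1 ∧
    (g : Matrix (Fin 7) (Fin 7) (ZMod 11)).det = 1}
  one_mem' := by simp
  mul_mem' := by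
    intro a b ha hb
    simp only [Set.mem_ofPred_eq] at ha hb ⊢
    refine ⟨?_, by rw [Units.val_mul, det_mul, ha.2, hb.2, one_mul]⟩
    rw [Units.val_mul]
    exact orth_mul ha.1 hb.1
  inv_mem' := by
    intro a ha
    simp only [Set.mem_ofPred_eq] at ha ⊢
    have he : ((a⁻¹ : GL (Fin 7) (ZMod 11)) : Matrix (Fin 7) (Fin 7) (ZMod 11)) =
        (a : Matrix (Fin 7) (Fin 7) (ZMod 11))ᵀ := by
      rw [coe_units_inv, Matrix.inv_eq_left_inv ha.1]
    rw [he, transpose_transpose]
    exact ⟨mul_eq_one_comm.1 ha.1, by rw [det_transpose, ha.2]⟩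

theorem gen_orth : ((toM gX)ᵀ * toM gX = 1 ∧ (toM gY)ᵀ * toM gY = 1) := by decide +kernel

theorem det_gen : (toM gX).det = 1 ∧ (toM gY).det = 1 := by
  have hx : toM gX ^ 7 = 1 := by
    have h := congrArg mat ((el_pow_eq_one_iff [false] 7).2 (by decide +kernel))
    simpa [mat, el, toM_gX, Cfsg.Spor.jankoX] using h
  have hy : toM gY ^ 5 = 1 := by
    have h := congrArg mat ((el_pow_eq_one_iff [true] 5).2 (by decide +kernel))
    simpa [mat, el, toM_gY, Cfsg.Spor.jankoY] using h
  have aux : ∀ z : ZMod 11, z * z = 1 → (z ^ 7 = 1 ∨ z ^ 5 = 1) → z = 1 := by decide +kernel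
  constructor
  · refine aux _ ?_ (Or.inl (by rw [← det_pow, hx, det_one]))
    have := congrArg det gen_orth.1
    rwa [det_mul, det_transpose, det_one] at this
  · refine aux _ ?_ (Or.inr (by rw [← det_pow, hy, det_one]))
    have := congrArg det gen_orth.2
    rwa [det_mul, det_transpose, det_one] at this

theorem J1_le_SO7 : Cfsg.Spor.J1 ≤ SO7 := by
  rw [Cfsg.Spor.J1, Subgroup.closure_le]
  rintro g (rfl | rfl)
  · exact ⟨(toM_gX ▸ gen_orth.1 :), (toM_gX ▸ det_gen.1 :)⟩
  · exact ⟨(toM_gY ▸ gen_orth.2 :), (toM_gY ▸ det_gen.2 :)⟩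

/-! ### Centralizers -/

/-- translates of a vector under a coded matrix -/
def chain (x : M7) (u : ℕ) : M7 :=
  let u1 := mv x u
  let u2 := mv x u1
  let u3 := mv x u2
  let u4 := mv x u3
  let u5 := mv x u4
  ⟨u, u1, u2, u3, u4, u5, mv x u5⟩

/-- test of the three inner products -/
def pass (x : M7) (u : ℕ) (i : ℕ) : Bool :=
  let w := mv (T i) v0
  let w1 := mv x w
  let w2 := mv x w1
  let w3 := mv x w2
  let u1 := mv x u
  let u2 := mv x u1
  let u3 := mv x u2
  Nat.beq (dot w w1) (dot u u1) && Nat.beq (dot w w2) (dot u u2) && Nat.beq (dot w w3) (dot u u3)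

/-- certificate check for the bound `p` on the order of a centralizer -/
def checkC (wx wb : List Bool) (Kinv : M7) (p : ℕ) : Bool :=
  let x := word gX gY wx
  let u := mv (word gX gY wb) v0
  okb Kinv && okb (chain x u) && (mul Kinv (chain x u)).beq one &&
    Nat.ble ((List.range 1540).filter (pass x u)).length p

theorem H_v0 : allLt 114 (fun n => Nat.beq (mv (H n) v0) v0 || Nat.beq (mv (H n) v0) (neg v0)) = true := by
  decide +kernel

theorem image_line (g : Cfsg.Spor.J1) (wb : List Bool) :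
    ∃ i < 1540, ∃ s : ZMod 11, s * s = 1 ∧
      mat g *ᵥ toV (mv (word gX gY wb) v0) = s • toV (mv (T i) v0) := by
  obtain ⟨i, hi, n, hn, e⟩ := covered (g * el wb).2
  have e' : mat g * toM (word gX gY wb) = toM (T i) * toM (H n) := by rw [← mat_el]; exact e
  refine ⟨i, hi, ?_⟩
  rw [toV_mv, mulVec_mulVec, e', ← mulVec_mulVec, ← toV_mv (H n)]
  have h := allLt_spec H_v0 n hn
  rw [Bool.or_eq_true, Nat.beq_eq, Nat.beq_eq] at h
  rcases h with h | h
  · exact ⟨1, one_mul 1, by rw [h, one_smul, toV_mv]⟩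
  · exact ⟨-1, by decide, by rw [h, toV_neg, mulVec_neg, neg_smul, one_smul, toV_mv]⟩

theorem dot_mat (g : Cfsg.Spor.J1) (a b : Fin 7 → ZMod 11) :
    (mat g *ᵥ a) ⬝ᵥ (mat g *ᵥ b) = a ⬝ᵥ b := by
  rw [dotProduct_mulVec, vecMul_mulVec, (J1_le_SO7 g.2).1, vecMul_one]

theorem vecMul_row_ext (M : M7) (A B : Matrix (Fin 7) (Fin 7) (ZMod 11))
    (h : ∀ k, A *ᵥ toV (M.row k) = B *ᵥ toV (M.row k)) : toM M * Aᵀ = toM M * Bᵀ := by
  funext k
  change toV (M.row k) ᵥ* Aᵀ = toV (M.row k) ᵥ* Bᵀ
  rw [vecMul_transpose, vecMul_transpose, h k]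

theorem forall_row {P : ℕ → Prop} {r0 r1 r2 r3 r4 r5 r6 : ℕ} (h0 : P r0) (h1 : P r1) (h2 : P r2)
    (h3 : P r3) (h4 : P r4) (h5 : P r5) (h6 : P r6) (k : Fin 7) :
    P ((M7.mk r0 r1 r2 r3 r4 r5 r6).row k) := by
  fin_cases k
  exacts [h0, h1, h2, h3, h4, h5, h6]

theorem eq_smul_of_cyclic (x Kinv : M7) (u : ℕ) (hKok : okb Kinv = true)
    (hMok : okb (chain x u) = true) (hKM : (mul Kinv (chain x u)).beq one = true)
    (A B : Matrix (Fin 7) (Fin 7) (ZMod 11)) (c : ZMod 11) (hA : A * toM x = toM x * A)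
    (hB : B * toM x = toM x * B) (h0 : A *ᵥ toV u = c • (B *ᵥ toV u)) : A = c • B := by
  have step : ∀ a, A *ᵥ toV a = (c • B) *ᵥ toV a → A *ᵥ toV (mv x a) = (c • B) *ᵥ toV (mv x a) := by
    intro a h
    rw [toV_mv, mulVec_mulVec, mulVec_mulVec, hA, Matrix.smul_mul, hB, ← Matrix.mul_smul,
      ← mulVec_mulVec, h, mulVec_mulVec]
  have h0' : A *ᵥ toV u = (c • B) *ᵥ toV u := by rw [smul_mulVec]; exact h0
  have r1 := step _ h0'
  have r2 := step _ r1
  have r3 := step _ r2
  have r4 := step _ r3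
  have r5 := step _ r4
  have r6 := step _ r5
  have hrows : ∀ k, A *ᵥ toV ((chain x u).row k) = (c • B) *ᵥ toV ((chain x u).row k) :=
    forall_row (P := fun r => A *ᵥ toV r = (c • B) *ᵥ toV r) h0' r1 r2 r3 r4 r5 r6
  have hM := vecMul_row_ext _ A (c • B) hrows
  have hKM' : toM Kinv * toM (chain x u) = 1 := by
    rw [← toM_mul hKok hMok, beq_eq hKM, toM_one]
  have := congrArg (fun M => toM Kinv * M) hM
  simp only [← Matrix.mul_assoc, hKM', Matrix.one_mul] at this
  exact transpose_injective this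

theorem pass_of_image (g x : Matrix (Fin 7) (Fin 7) (ZMod 11)) (X : M7) (u w : ℕ) (hX : toM X = x)
    (hc : g * x = x * g) (horth : ∀ a b, (g *ᵥ a) ⬝ᵥ (g *ᵥ b) = a ⬝ᵥ b) (s : ZMod 11) (hs : s * s = 1)
    (he : g *ᵥ toV u = s • toV w) :
    dot w (mv X w) = dot u (mv X u) ∧ dot w (mv X (mv X w)) = dot u (mv X (mv X u)) ∧
      dot w (mv X (mv X (mv X w))) = dot u (mv X (mv X (mv X u))) := by
  subst hX
  have step : ∀ a b : ℕ, g *ᵥ toV a = s • toV b → g *ᵥ toV (mv X a) = s • toV (mv X b) := by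
    intro a b h
    rw [toV_mv, mulVec_mulVec, hc, ← mulVec_mulVec, h, mulVec_smul, ← toV_mv]
  have key : ∀ a b : ℕ, g *ᵥ toV a = s • toV b → dot w b = dot u a := by
    intro a b h
    have hd := horth (toV u) (toV a)
    rw [he, h, smul_dotProduct, dotProduct_smul, smul_eq_mul, smul_eq_mul, ← mul_assoc, hs,
      one_mul] at hd
    have hcast : ((dot w b : ℕ) : ZMod 11) = ((dot u a : ℕ) : ZMod 11) := by
      rw [cast_dot, cast_dot]; exact hd
    rwa [ZMod.natCast_eq_natCast_iff', Nat.mod_eq_of_lt (dot_lt _ _),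
      Nat.mod_eq_of_lt (dot_lt _ _)] at hcast
  have s1 := step _ _ he
  have s2 := step _ _ s1
  have s3 := step _ _ s2
  exact ⟨key _ _ s1, key _ _ s2, key _ _ s3⟩

theorem centralizer_card_le (wx wb : List Bool) (Kinv : M7) (p : ℕ)
    (hck : checkC wx wb Kinv p = true) :
    Nat.card (Subgroup.centralizer ({el wx} : Set Cfsg.Spor.J1)) ≤ p := by
  classical
  simp only [checkC, Bool.and_eq_true, Nat.ble_eq] at hck
  obtain ⟨⟨⟨hKok, hMok⟩, hKM⟩, hcount⟩ := hck
  have himg := fun g : Cfsg.Spor.J1 => image_line g wb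
  have hX := mat_el wx
  generalize word gX gY wx = x at hMok hKM hcount hX
  generalize mv (word gX gY wb) v0 = u at hMok hKM hcount himg
  set C := Subgroup.centralizer ({el wx} : Set Cfsg.Spor.J1)
  have hc : ∀ g : C, mat g * toM x = toM x * mat g := fun g => by
    rw [← hX]
    exact (congrArg mat (Subgroup.mem_centralizer_singleton_iff.1 g.2) :)
  have hpass : ∀ g : C, ∃ i ∈ ((List.range 1540).filter (pass x u)).toFinset, ∃ s : ZMod 11,
      s * s = 1 ∧ mat g *ᵥ toV u = s • toV (mv (T i) v0) := by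
    intro g
    obtain ⟨i, hi, s, hs, he⟩ := himg g.1
    refine ⟨i, ?_, s, hs, he⟩
    rw [List.mem_toFinset, List.mem_filter]
    refine ⟨List.mem_range.2 hi, ?_⟩
    obtain ⟨k1, k2, k3⟩ := pass_of_image (mat g) (toM x) x u (mv (T i) v0) rfl (hc g)
      (dot_mat g.1) s hs he
    simp only [pass, Bool.and_eq_true, Nat.beq_eq]
    exact ⟨⟨k1, k2⟩, k3⟩
  choose i hi s hs he using hpass
  have hinj : Function.Injective fun g : C =>
      (⟨i g, hi g⟩ : ↥((List.range 1540).filter (pass x u)).toFinset) := by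
    intro g g' hgg
    replace hgg : i g = i g' := congrArg Subtype.val hgg
    have hcc : (s g * s g') * (s g * s g') = 1 := by rw [mul_mul_mul_comm, hs, hs, one_mul]
    have h0 : mat g *ᵥ toV u = (s g * s g') • (mat g' *ᵥ toV u) := by
      rw [he g, he g', ← hgg, smul_smul, mul_assoc, hs, mul_one]
    have hgc := eq_smul_of_cyclic x Kinv u hKok hMok hKM _ _ _ (hc g) (hc g') h0
    have hd : (s g * s g') ^ 7 = 1 := by
      have := congrArg det hgc
      rw [det_smul, (J1_le_SO7 g.1.2).2, (J1_le_SO7 g'.1.2).2, mul_one, Fintype.card_fin] at this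
      exact this.symm
    have aux : ∀ z : ZMod 11, z * z = 1 → z ^ 7 = 1 → z = 1 := by decide +kernel
    rw [aux _ hcc hd, one_smul] at hgc
    exact Subtype.ext (mat_injective hgc)
  refine (Nat.card_le_card_of_injective _ hinj).trans ?_
  rw [Nat.card_eq_fintype_card, Fintype.card_coe]
  exact (List.toFinset_card_le _).trans hcount

theorem card_C7 : Nat.card (Subgroup.centralizer ({el w7} : Set Cfsg.Spor.J1)) ≤ 7 :=
  centralizer_card_le w7 [] ⟨0x6000300040007000400090001, 0x1000600030004000700040009,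
    0x9000100060003000400070004, 0x4000900010006000300040007, 0x7000400090001000600030004,
    0x4000700040009000100060003, 0x3000400070004000900010006⟩ 7 (by decide +kernel)

theorem card_C11 : Nat.card (Subgroup.centralizer ({el w11} : Set Cfsg.Spor.J1)) ≤ 11 :=
  centralizer_card_le w11 [false, false] ⟨0x500020009000a0005000a0001, 0x90008000a0004000000040000,
    0x6000800040008000700040001, 0x7000800050001000300020008, 0x5000300040003000400070007,
    0xa000900040003000400050006, 0x1000700030003000400020001⟩ 11 (by decide +kernel)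

theorem card_C19 : Nat.card (Subgroup.centralizer ({el w19} : Set Cfsg.Spor.J1)) ≤ 19 :=
  centralizer_card_le w19 [true, false] ⟨0x20009000900020001000a0003, 0x100070000000700090000000a,
    0x4000600030009000200090000, 0xa0004000200090001000a0008, 0x6000900000004000a00000000,
    0x8000100060001000300080006, 0x3000a0007000a0007000a⟩ 19 (by decide +kernel)

theorem card_C15 : Nat.card (Subgroup.centralizer ({el w15} : Set Cfsg.Spor.J1)) ≤ 15 :=
  centralizer_card_le w15 [false, false, false] ⟨0x70008000500010007000a0001,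
    0x7000100010008000600070009, 0x10009000000050003000a0006, 0x7000800010008000a000a0004,
    0x9000300060004000a00080007, 0x2000400050007000800070006, 0xa00080004000500040006⟩ 15
    (by decide +kernel)

/-! ### Element orders -/

/-- every element of prime power order is conjugate into a given Sylow subgroup -/
theorem exists_conj_mem {G : Type*} [Group G] [Finite G] (p : ℕ) [Fact p.Prime] (e : ℕ)
    (hndvd : ¬ p ^ (e + 1) ∣ Nat.card G) {E : Subgroup G} (hE : Nat.card E = p ^ e) {x : G} {k : ℕ}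
    (hx : orderOf x = p ^ k) : ∃ c : G, MulAut.conj c x ∈ E := by
  have hEp : IsPGroup p E := IsPGroup.of_card hE
  obtain ⟨P, hP⟩ := hEp.exists_le_sylow
  have hPeq : (P : Subgroup G) = E := by
    obtain ⟨n, hn⟩ := IsPGroup.iff_card.1 P.2
    refine (Subgroup.eq_of_le_of_card_ge hP ?_).symm
    rw [hn, hE]
    refine Nat.pow_le_pow_right (Fact.out : p.Prime).pos ?_
    by_contra hlt
    push Not at hlt
    exact hndvd ((pow_dvd_pow p hlt).trans (hn ▸ Subgroup.card_subgroup_dvd_card (P : Subgroup G)))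
  have hxp : IsPGroup p (Subgroup.zpowers x) := IsPGroup.of_card (n := k) (by rw [Nat.card_zpowers, hx])
  obtain ⟨Q, hQ⟩ := hxp.exists_le_sylow
  obtain ⟨c, hc⟩ := MulAction.exists_smul_eq G Q P
  refine ⟨c, ?_⟩
  rw [← hPeq, ← hc]
  exact Subgroup.smul_mem_pointwise_smul x (MulAut.conj c) (Q : Subgroup G) (hQ (Subgroup.mem_zpowers x))

/-- an element whose order is a multiple of a prime dividing the group order once can be conjugated to
commute with a given element of that order -/
theorem exists_conj_commute {G : Type*} [Group G] [Finite G] (p : ℕ) [Fact p.Prime]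
    (hndvd : ¬ p ^ 2 ∣ Nat.card G) {y g : G} (hy : orderOf y = p) (hg : p ∣ orderOf g) :
    ∃ c : G, Commute y (MulAut.conj c g) ∧ y ∈ Subgroup.zpowers (MulAut.conj c g ^ (orderOf g / p)) := by
  set x := g ^ (orderOf g / p) with hxdef
  have hx : orderOf x = p := orderOf_pow_orderOf_div (orderOf_pos g).ne' hg
  obtain ⟨c, hc⟩ := exists_conj_mem p 1 hndvd (E := Subgroup.zpowers y)
    (by rw [Nat.card_zpowers, hy, pow_one]) (k := 1) (by rw [hx, pow_one] : orderOf x = p ^ 1)
  refine ⟨c, ?_⟩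
  have heq : Subgroup.zpowers (MulAut.conj c x) = Subgroup.zpowers y := by
    refine Subgroup.eq_of_le_of_card_ge (Subgroup.zpowers_le.2 hc) ?_
    rw [Nat.card_zpowers, Nat.card_zpowers, MulEquiv.orderOf_eq, hx, hy]
  have hy' : y ∈ Subgroup.zpowers (MulAut.conj c g ^ (orderOf g / p)) := by
    rw [← map_pow, ← hxdef, heq]; exact Subgroup.mem_zpowers y
  refine ⟨?_, hy'⟩
  obtain ⟨n, rfl⟩ := Subgroup.mem_zpowers_iff.1 hy'
  exact ((Commute.refl _).pow_left _).zpow_left _

theorem ndvd {m : ℕ} (h : ¬ m ∣ 175560) : ¬ m ∣ Nat.card Cfsg.Spor.J1 := card_J1.symm ▸ h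

theorem not_four_dvd (g : Cfsg.Spor.J1) : ¬ 4 ∣ orderOf g := by
  intro h
  haveI := Fact.mk Nat.prime_two
  have hx : orderOf (g ^ (orderOf g / 4)) = 2 ^ 2 := orderOf_pow_orderOf_div (orderOf_pos g).ne' h
  obtain ⟨c, hc⟩ := exists_conj_mem 2 3 (ndvd (by norm_num)) (E := E8) (by rw [card_E8]; rfl) hx
  have h2 := orderOf_dvd_of_pow_eq_one (sq_of_mem_E8 hc)
  rw [MulEquiv.orderOf_eq, hx] at h2
  norm_num at h2

theorem eq_of_prime_dvd (p : ℕ) [Fact p.Prime] (hndvd : ¬ p ^ 2 ∣ 175560) (w : List Bool)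
    (hw : orderOf (el w) = p)
    (hC : Nat.card (Subgroup.centralizer ({el w} : Set Cfsg.Spor.J1)) ≤ p) (g : Cfsg.Spor.J1)
    (hg : p ∣ orderOf g) : orderOf g = p := by
  obtain ⟨c, hc, -⟩ := exists_conj_commute p (ndvd hndvd) hw hg
  have hmem : MulAut.conj c g ∈ Subgroup.centralizer ({el w} : Set Cfsg.Spor.J1) :=
    Subgroup.mem_centralizer_singleton_iff.2 hc.symm.eq
  have hle := (orderOf_le_card (G := Subgroup.centralizer ({el w} : Set Cfsg.Spor.J1))
    (x := ⟨_, hmem⟩)).trans hC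
  rw [Subgroup.orderOf_mk, MulEquiv.orderOf_eq] at hle
  exact le_antisymm hle (Nat.le_of_dvd (orderOf_pos g) hg)

theorem ne_thirty (g : Cfsg.Spor.J1) : orderOf g ≠ 30 := by
  intro hg
  haveI := Fact.mk (show Nat.Prime 5 by norm_num)
  haveI := Fact.mk (show Nat.Prime 3 by norm_num)
  set y := el w15
  have hy3 : orderOf (y ^ 3) = 5 := by
    rw [orderOf_pow' _ (by norm_num), orderOf_w15]; rfl
  have hy5 : orderOf (y ^ 5) = 3 := by
    rw [orderOf_pow' _ (by norm_num), orderOf_w15]; rfl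
  obtain ⟨c, hc, -⟩ := exists_conj_commute 5 (ndvd (by norm_num)) hy3 (g := g) (by rw [hg]; norm_num)
  set C := Subgroup.centralizer ({y ^ 3} : Set Cfsg.Spor.J1)
  let g1 : C := ⟨MulAut.conj c g, Subgroup.mem_centralizer_singleton_iff.2 hc.symm.eq⟩
  let z : C := ⟨y ^ 5, Subgroup.mem_centralizer_singleton_iff.2 ((Commute.refl y).pow_pow 5 3).eq⟩
  have hg1 : orderOf g1 = 30 := by rw [Subgroup.orderOf_mk, MulEquiv.orderOf_eq, hg]
  have hC3 : ¬ 3 ^ 2 ∣ Nat.card C := fun h =>
    ndvd (m := 3 ^ 2) (by norm_num) (h.trans (Subgroup.card_subgroup_dvd_card C))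
  obtain ⟨d, hd, -⟩ := exists_conj_commute 3 hC3 (y := z) (g := g1)
    (by rw [Subgroup.orderOf_mk, hy5]) (by rw [hg1]; norm_num)
  set g2 : Cfsg.Spor.J1 := (MulAut.conj d g1).1 with hg2def
  have hg2 : orderOf g2 = 30 := by rw [hg2def, Subgroup.orderOf_coe, MulEquiv.orderOf_eq, hg1]
  have h5 : Commute (y ^ 5) g2 := (congrArg Subtype.val hd.eq :)
  have h3 : Commute g2 (y ^ 3) :=
    Subgroup.mem_centralizer_singleton_iff.1 (MulAut.conj d g1).2
  have hyy : y = (y ^ 3) ^ 2 * (y ^ 5) ^ 2 := by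
    rw [← pow_mul, ← pow_mul, ← pow_add, show 3 * 2 + 5 * 2 = 15 + 1 from rfl, pow_succ,
      show y ^ 15 = 1 by rw [← orderOf_w15]; exact pow_orderOf_eq_one _, one_mul]
  have hcy : Commute g2 y := by
    rw [hyy]; exact (h3.pow_right 2).mul_right (h5.symm.pow_right 2)
  have hle := (orderOf_le_card (G := Subgroup.centralizer ({y} : Set Cfsg.Spor.J1))
    (x := ⟨g2, Subgroup.mem_centralizer_singleton_iff.2 hcy.eq⟩)).trans card_C15
  rw [Subgroup.orderOf_mk, hg2] at hle
  omega

/-- the element orders of J1 -/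
def orders : List ℕ := [1, 2, 3, 5, 6, 7, 10, 11, 15, 19]

theorem orderOf_mem (g : Cfsg.Spor.J1) : orderOf g ∈ orders := by
  have hd : orderOf g ∣ 8 * 21945 := by
    have := orderOf_dvd_natCard g
    rw [card_J1] at this; simpa using this
  haveI := Fact.mk (show Nat.Prime 7 by norm_num)
  haveI := Fact.mk (show Nat.Prime 11 by norm_num)
  haveI := Fact.mk (show Nat.Prime 19 by norm_num)
  by_cases h7 : 7 ∣ orderOf g
  · rw [eq_of_prime_dvd 7 (by norm_num) w7 orderOf_w7 card_C7 g h7]; decide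
  by_cases h11 : 11 ∣ orderOf g
  · rw [eq_of_prime_dvd 11 (by norm_num) w11 orderOf_w11 card_C11 g h11]; decide
  by_cases h19 : 19 ∣ orderOf g
  · rw [eq_of_prime_dvd 19 (by norm_num) w19 orderOf_w19 card_C19 g h19]; decide
  have hd' : orderOf g ∣ 120 * 1463 := by norm_num at hd ⊢; exact hd
  have hcop : Nat.Coprime (orderOf g) 1463 := by
    rw [show (1463 : ℕ) = 7 * (11 * 19) from rfl, Nat.coprime_mul_iff_right, Nat.coprime_mul_iff_right]
    exact ⟨((show Nat.Prime 7 by norm_num).coprime_iff_not_dvd.2 h7).symm,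
      ((show Nat.Prime 11 by norm_num).coprime_iff_not_dvd.2 h11).symm,
      ((show Nat.Prime 19 by norm_num).coprime_iff_not_dvd.2 h19).symm⟩
  have h120 := hcop.dvd_of_dvd_mul_right hd'
  have hmem := Nat.mem_divisors.2 ⟨h120, by norm_num⟩
  have h4 := not_four_dvd g
  have h30 := ne_thirty g
  revert hmem h4 h30
  generalize orderOf g = n
  have key : ∀ n ∈ Nat.divisors 120, ¬ 4 ∣ n → n ≠ 30 → n ∈ orders := by decide +kernel
  exact key n

theorem exists_orderOf {n : ℕ} (hn : n ∈ orders) : ∃ g : Cfsg.Spor.J1, orderOf g = n := by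
  have red : ∀ (g : Cfsg.Spor.J1) (m k : ℕ), orderOf g = m → k ∣ m → 0 < k → 0 < m →
      orderOf (g ^ k) = m / k := fun g m k hg hk hk0 _ => by
    rw [orderOf_pow_of_dvd hk0.ne' (hg.symm ▸ hk), hg]
  simp only [orders, List.mem_cons, List.not_mem_nil, or_false] at hn
  rcases hn with rfl | rfl | rfl | rfl | rfl | rfl | rfl | rfl | rfl | rfl
  · exact ⟨1, orderOf_one⟩
  · exact ⟨_, red _ 10 5 orderOf_w10 (by norm_num) (by norm_num) (by norm_num)⟩
  · exact ⟨_, red _ 15 5 orderOf_w15 (by norm_num) (by norm_num) (by norm_num)⟩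
  · exact ⟨_, red _ 15 3 orderOf_w15 (by norm_num) (by norm_num) (by norm_num)⟩
  · exact ⟨_, orderOf_w6⟩
  · exact ⟨_, orderOf_w7⟩
  · exact ⟨_, orderOf_w10⟩
  · exact ⟨_, orderOf_w11⟩
  · exact ⟨_, orderOf_w15⟩
  · exact ⟨_, orderOf_w19⟩

theorem range_orderOf : Set.range (orderOf : Cfsg.Spor.J1 → ℕ) = {n | n ∈ orders} :=
  Set.ext fun _ => ⟨fun ⟨g, hg⟩ => hg ▸ orderOf_mem g, fun h => exists_orderOf h⟩

end CfsgLib.J1
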